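import Cfsg.Agent.Lib.Presented.HNxyz.Double
import Cfsg.Prelude.Def_Sporadic

/-!
The presented Harada-Norton group is simple of the expected order once the subgroup on x, y, z is known to have
index 1539000 and to fix no other coset.
-/
set_option autoImplicit false
set_option maxRecDepth 8000

namespace CfsgLib.Presented.HNxyz

open HNPerm (rep stabWords)
open scoped commutatorElement

/-- the image of the three generators -/
noncomputable abbrev N : Subgroup Cfsg.Spor.HN := psi.range

theorem card_T : Nat.card T = 177408000 := by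
  rw [card_T_eq, ← card_ker_eq, card_sig_ker]

theorem card_N : Nat.card N = 177408000 := by
  rw [← card_T]
  exact (Nat.card_congr (MonoidHom.ofInjective psi_injective).toEquiv).symm

/-- An element commuting with the even subgroup is even. -/
theorem mem_K_of_commute {g : T} (hcomm : ∀ a ∈ K, g * a = a * g) : g ∈ K := by
  haveI := finite_T
  haveI := P_pretransitive
  let o : Fin rep.N := pt 0 (by norm_num)
  obtain ⟨h22, h77⟩ := orbits P_le S_le
  have hfix : ∀ s : MulAction.stabilizer P o, s • phi g o = phi g o := by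
    rintro ⟨⟨s, a, ha, rfl⟩, hs⟩
    show phi a (phi g _) = _
    have hs' : phi a o = o := hs
    rw [← Equiv.Perm.mul_apply, ← map_mul, ← hcomm a ha, map_mul, Equiv.Perm.mul_apply, hs']
  have hone : (MulAction.orbit (MulAction.stabilizer P o) (phi g o)).ncard = 1 := by
    rw [Set.ncard_eq_one]
    refine ⟨phi g o, Set.eq_singleton_iff_unique_mem.2 ⟨MulAction.mem_orbit_self _, ?_⟩⟩
    rintro _ ⟨s, rfl⟩
    exact hfix s
  have hfixS : ∀ h ∈ S, phi h o = o := by
    intro h hh
    induction hh using Subgroup.closure_induction with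
    | mem y hy => obtain ⟨w, hw, rfl⟩ := hy; exact stabWords_fix w hw
    | one => simp
    | mul a b _ _ iha ihb => rw [map_mul, Equiv.Perm.mul_apply, ihb, iha]
    | inv a _ ih => rw [map_inv]; exact (Equiv.symm_apply_eq _).2 ih.symm
  have hin : ∀ i (hi : i < 100) r O, orbitOK rep stabWords i r O = true → O.testBit (phi g o : ℕ) = true →
      (MulAction.orbit (MulAction.stabilizer P o) (pt i hi)).ncard = 1 := by
    intro i hi r O hok hO
    obtain ⟨h, hh, he⟩ := (orbit_eq_of_ok rep_valid hok phi phi_ev (H := S) rfl hi _).2 hO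
    have hmem : phi g o ∈ MulAction.orbit (MulAction.stabilizer P o) (pt i hi) :=
      ⟨⟨⟨phi h, S_le (Subgroup.mem_map_of_mem _ hh)⟩, hfixS h hh⟩, he⟩
    rw [← MulAction.orbit_eq_iff.2 hmem, hone]
  have hcases : ∀ j : Fin rep.N, j = pt 0 (by norm_num) ∨ HNPerm.orb_a.testBit (j : ℕ) = true ∨
      HNPerm.orb_b.testBit (j : ℕ) = true := by decide +kernel
  have h0 : phi g o = o := by
    rcases hcases (phi g o) with h | h | h
    · exact h
    · exact absurd (h22.symm.trans (hin _ (by decide) _ _ (by decide +kernel : orbitOK rep stabWords HNPerm.pt_a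
        HNPerm.rounds_a HNPerm.orb_a = true) h)) (by norm_num)
    · exact absurd (h77.symm.trans (hin _ (by decide) _ _ (by decide +kernel : orbitOK rep stabWords HNPerm.pt_b
        HNPerm.rounds_b HNPerm.orb_b = true) h)) (by norm_num)
  refine ker_le_K (MonoidHom.mem_ker.2 (Equiv.ext fun j => ?_))
  obtain ⟨⟨s, a, ha, rfl⟩, rfl⟩ := MulAction.exists_smul_eq P o j
  show phi g (phi a _) = phi a _
  rw [← Equiv.Perm.mul_apply, ← map_mul, hcomm a ha, map_mul, Equiv.Perm.mul_apply, h0]

/-- the four generators -/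
noncomputable abbrev hX : Cfsg.Spor.HN := PresentedGroup.of Cfsg.Spor.HN.Gen.x
/-- the four generators -/
noncomputable abbrev hY : Cfsg.Spor.HN := PresentedGroup.of Cfsg.Spor.HN.Gen.y
/-- the four generators -/
noncomputable abbrev hZ : Cfsg.Spor.HN := PresentedGroup.of Cfsg.Spor.HN.Gen.z
/-- the four generators -/
noncomputable abbrev hT : Cfsg.Spor.HN := PresentedGroup.of Cfsg.Spor.HN.Gen.t

theorem psi_gens : psi gx = hX ∧ psi gy = hY ∧ psi gz = hZ := ⟨psi_of _, psi_of _, psi_of _⟩

theorem t_rels : hT ^ 5 = 1 ∧ hX⁻¹ * hT * hX * hT ^ 2 = 1 ∧ (hZ * hT) ^ 3 = 1 := by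
  have h := Letters.rels_hold (extra := Cfsg.Spor.HN.extra) lettersHN_valid nodesHN_valid fullHN
  have hev : ∀ g, lettersHN.ev (fun g => (PresentedGroup.of g : Cfsg.Spor.HN)) (idxHN g) = PresentedGroup.of g ∧
      lettersHN.ev (fun g => (PresentedGroup.of g : Cfsg.Spor.HN)) (lettersHN.A.invl (idxHN g)) =
        (PresentedGroup.of g)⁻¹ := fun g =>
    Letters.ev_idx lettersHN_valid (Letters.of_sq nodesHN_valid) (fullHN g).1 (fullHN g).2
  have h6 := (hev .t).1
  have h0 := (hev .x).1
  have h4 := (hev .z).1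
  have h1 : lettersHN.ev (fun g => (PresentedGroup.of g : Cfsg.Spor.HN)) 1 = hX⁻¹ := rfl
  simp only [idxHN] at h0 h4 h6
  refine ⟨?_, ?_, ?_⟩
  · have := h [6, 6, 6, 6, 6] (by decide +kernel)
    simpa [evW, h6, pow_succ, mul_assoc] using this
  · have := h [1, 6, 0, 6, 6] (by decide +kernel)
    simpa [evW, h0, h1, h6, pow_succ, mul_assoc] using this
  · have := h [4, 6, 4, 6, 4, 6] (by decide +kernel)
    simpa [evW, h4, h6, pow_succ, mul_assoc] using this

theorem rels_map {G : Type*} [Group G] (π : Cfsg.Spor.HN →* G) :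
    π hY ^ 6 = 1 ∧ (π hX)⁻¹ * π hT * π hX * π hT ^ 2 = 1 ∧ (π hZ * π hT) ^ 3 = 1 ∧ π hT ^ 5 = 1 ∧
      π hZ ^ 2 = 1 := by
  obtain ⟨e5, e1, e3⟩ := t_rels
  refine ⟨?_, ?_, ?_, ?_, ?_⟩
  · rw [← psi_gens.2.1, ← map_pow, ← map_pow, rel0, map_one, map_one]
  · simpa using congrArg π e1
  · simpa using congrArg π e3
  · simpa using congrArg π e5
  · rw [← psi_gens.2.2, ← map_pow, ← map_pow, rel6, map_one, map_one]

/-- A normal subgroup containing x and y is everything. -/
theorem top_of_xy {M : Subgroup Cfsg.Spor.HN} [M.Normal] (hx : hX ∈ M) (hy : hY ∈ M) : M = ⊤ := by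
  set π := QuotientGroup.mk' M with hπ
  obtain ⟨-, e1, e3, e5, e2⟩ := rels_map π
  have px : π hX = 1 := (QuotientGroup.eq_one_iff _).2 hx
  rw [px, inv_one, one_mul, mul_one, ← pow_succ'] at e1
  have pt' : π hT = 1 := by
    have : π hT ^ 6 = π hT ^ 5 * π hT := pow_succ _ _
    rw [e5, one_mul, show 6 = 3 * 2 from rfl, pow_mul, e1, one_pow] at this
    exact this.symm
  rw [pt', mul_one, show (3 : ℕ) = 2 + 1 from rfl, pow_succ, e2, one_mul] at e3
  rw [eq_top_iff, ← PresentedGroup.closure_range_of, Subgroup.closure_le]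
  rintro _ ⟨g, rfl⟩
  cases g
  · exact hx
  · exact hy
  · exact (QuotientGroup.eq_one_iff _).1 e3
  · exact (QuotientGroup.eq_one_iff _).1 pt'

/-- A normal subgroup containing the square of x is everything. -/
theorem top_of_sq {M : Subgroup Cfsg.Spor.HN} [M.Normal] (hs : hX ^ 2 ∈ M) : M = ⊤ := by
  set π := QuotientGroup.mk' M with hπ
  obtain ⟨ey, e1, e3, e5, e2⟩ := rels_map π
  have px2 : π hX * π hX = 1 := by
    rw [← pow_two, ← map_pow]; exact (QuotientGroup.eq_one_iff _).2 hs
  have xi : (π hX)⁻¹ = π hX := inv_eq_of_mul_eq_one_right px2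
  have hconj : (π hX)⁻¹ * π hT * π hX = (π hT ^ 2)⁻¹ := eq_inv_of_mul_eq_one_left e1
  have h4 : π hT = π hT ^ 4 := by
    calc π hT = (π hX)⁻¹ * ((π hX)⁻¹ * π hT * π hX) * π hX := by
          rw [xi]; simp only [mul_assoc]; rw [px2, ← mul_assoc (π hX) (π hX), px2, one_mul, mul_one]
      _ = (π hX)⁻¹ * (π hT ^ 2)⁻¹ * π hX := by rw [hconj]
      _ = (((π hX)⁻¹ * π hT * π hX) * ((π hX)⁻¹ * π hT * π hX))⁻¹ := by rw [pow_two]; group
      _ = π hT ^ 4 := by rw [hconj]; group
  have t3 : π hT ^ 3 = 1 := mul_eq_left.1 (by rw [← pow_succ']; exact h4.symm : π hT * π hT ^ 3 = π hT)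
  have pt' : π hT = 1 := by
    have : π hT ^ 6 = π hT ^ 5 * π hT := pow_succ _ _
    rw [e5, one_mul, show 6 = 3 * 2 from rfl, pow_mul, t3, one_pow] at this
    exact this.symm
  rw [pt', mul_one, show (3 : ℕ) = 2 + 1 from rfl, pow_succ, e2, one_mul] at e3
  have hxgen : ∀ w : T, π (psi w) = (π.comp psi) w := fun _ => rfl
  have r9 := congrArg (π.comp psi) rel9
  have r3 := congrArg (π.comp psi) rel3
  have r4 := congrArg (π.comp psi) rel4
  simp only [map_mul, map_pow, map_inv, map_one, MonoidHom.comp_apply, psi_gens.1, psi_gens.2.1, psi_gens.2.2,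
    e3, mul_one, one_mul, inv_mul_cancel] at r9 r3 r4
  have px : π hX = 1 := by
    rw [pow_succ, pow_two, px2, one_mul] at r9
    exact r9
  simp only [px, inv_one, one_mul, mul_one] at r3 r4
  rw [← pow_add, ← pow_mul] at r3
  have y3 : π hY ^ 3 = 1 := by
    have : π hY ^ ((2 + 3) * 3) = (π hY ^ 6) ^ 2 * π hY ^ 3 :=
      (congrArg (π hY ^ ·) (by norm_num : (2 + 3) * 3 = 6 * 2 + 3)).trans (by rw [pow_add, pow_mul])
    rw [this, ey, one_pow, one_mul] at r3
    exact r3
  have py : π hY = 1 := by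
    have e : π hY ^ 8 * π hY = (π hY ^ 3) ^ 3 :=
      ((pow_succ _ 8).symm.trans (congrArg (π hY ^ ·) (by norm_num : 8 + 1 = 3 * 3))).trans (pow_mul _ 3 3)
    rwa [r4, one_mul, y3, one_pow] at e
  exact top_of_xy ((QuotientGroup.eq_one_iff _).1 px) ((QuotientGroup.eq_one_iff _).1 py)

/-- A normal subgroup meeting N non-trivially is everything. -/
theorem top_of_meets {M : Subgroup Cfsg.Spor.HN} [M.Normal] (h : M.comap psi ≠ ⊥) : M = ⊤ := by
  haveI := finite_T
  haveI := P_simple
  set A := (M.comap psi).subgroupOf K with hA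
  haveI : (A.map sig).Normal := Subgroup.Normal.map inferInstance _ sig_surj
  rcases IsSimpleGroup.eq_bot_or_eq_top_of_normal (A.map sig) inferInstance with hb | ht
  · by_cases hs : gx ^ 2 ∈ M.comap psi
    · exact top_of_sq (by simpa [psi_gens.1] using hs)
    exfalso
    have hK : ∀ k ∈ K, k ∈ M.comap psi → k = 1 := by
      intro k hk hkM
      have : sig ⟨k, hk⟩ ∈ A.map sig := Subgroup.mem_map_of_mem _ hkM
      rw [hb, Subgroup.mem_bot] at this
      have hk0 : (⟨k, hk⟩ : K) ∈ sig.ker := this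
      rw [sig_ker] at hk0
      rcases mem_ker_cases hk0 with rfl | rfl
      · rfl
      · exact absurd hkM hs
    obtain ⟨g, hg, hg1⟩ := (Subgroup.ne_bot_iff_exists_ne_one.1 h)
      |> fun ⟨g, hg⟩ => (⟨g.1, g.2, fun e => hg (Subtype.ext e)⟩ : ∃ g, g ∈ M.comap psi ∧ g ≠ 1)
    by_cases hgK : g ∈ K
    · exact hg1 (hK g hgK hg)
    refine hgK (mem_K_of_commute fun a ha => commutatorElement_eq_one_iff_mul_comm.1 (hK _ ?_ ?_))
    · rw [commutatorElement_def]
      exact K.mul_mem ((MonoidHom.normal_ker pi0).conj_mem a ha g) (K.inv_mem ha)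
    · rw [commutatorElement_def, mul_assoc, mul_assoc]
      refine (M.comap psi).mul_mem hg ?_
      rw [← mul_assoc]
      exact (inferInstance : (M.comap psi).Normal).conj_mem _ ((M.comap psi).inv_mem hg) a
  · have hsup : ∀ k : K, ∃ a ∈ A, a⁻¹ * k ∈ Subgroup.center K := fun k => by
      obtain ⟨a, ha, he⟩ : sig k ∈ A.map sig := ht ▸ Subgroup.mem_top _
      exact ⟨a, ha, sig_central (by rw [MonoidHom.mem_ker, map_mul, map_inv, he, inv_mul_cancel])⟩
    have hA' : A = ⊤ := by
      rw [eq_top_iff, ← K_perfect, commutator_def, Subgroup.commutator_le]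
      intro k _ l _
      obtain ⟨a, ha, hc⟩ := hsup k
      obtain ⟨b, hb, hd⟩ := hsup l
      set c := a⁻¹ * k with hcdef
      set d := b⁻¹ * l with hddef
      have hk : k = a * c := (mul_inv_cancel_left a k).symm
      have hl : l = b * d := (mul_inv_cancel_left b l).symm
      have e1 := fun g => Subgroup.mem_center_iff.1 hc g
      have e2 := fun g => Subgroup.mem_center_iff.1 hd g
      have : ⁅k, l⁆ = ⁅a, b⁆ := by
        rw [hk, hl]
        calc a * c * (b * d) * (a * c)⁻¹ * (b * d)⁻¹ = a * (c * (b * d)) * c⁻¹ * a⁻¹ * d⁻¹ * b⁻¹ := by group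
          _ = a * ((b * d) * c) * c⁻¹ * a⁻¹ * d⁻¹ * b⁻¹ := by rw [← e1 (b * d)]
          _ = a * b * (d * a⁻¹) * d⁻¹ * b⁻¹ := by group
          _ = a * b * (a⁻¹ * d) * d⁻¹ * b⁻¹ := by rw [← e2 a⁻¹]
          _ = ⁅a, b⁆ := by rw [commutatorElement_def]; group
      rw [this]
      exact A.mul_mem (A.mul_mem (A.mul_mem ha hb) (A.inv_mem ha)) (A.inv_mem hb)
    have hKM : ∀ k ∈ K, psi k ∈ M := fun k hk =>
      (hA' ▸ Subgroup.mem_top (⟨k, hk⟩ : K) : (⟨k, hk⟩ : K) ∈ A)
    exact top_of_xy (psi_gens.1 ▸ hKM gx gx_mem) (psi_gens.2.1 ▸ hKM gy gy_mem)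

theorem card_HN (hidx : N.index = 1539000) : Nat.card Cfsg.Spor.HN = 273030912000000 := by
  rw [← Subgroup.card_mul_index N, card_N, hidx]

theorem pow_mod_inj : ∀ q ∈ [2, 3, 5, 19], ∀ k < 5, ∀ j < 5, q ^ k ∣ 1539000 → j ≤ k →
    q ^ k % 11 = q ^ j % 11 → j = k := by decide +kernel

/-- An automorphism of order dividing eleven fixes a group of order dividing 1539000 pointwise. -/
theorem aut_eleven {M : Type*} [Group M] [Finite M] (hM : Nat.card M ∣ 1539000) (α : MulAut M)
    (hα : α ^ 11 = 1) : ∀ m : M, α m = m := by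
  classical
  haveI : Fact (Nat.Prime 11) := ⟨by norm_num⟩
  let Γ : Subgroup (MulAut M) := Subgroup.zpowers α
  have hΓ : IsPGroup 11 Γ := by
    rintro ⟨g, i, rfl⟩
    refine ⟨1, Subtype.ext ?_⟩
    show (α ^ i) ^ (11 ^ 1) = 1
    rw [pow_one, ← zpow_natCast, ← zpow_mul, mul_comm, zpow_mul, zpow_natCast, hα, one_zpow]
  let C : Subgroup M := { carrier := {m | α m = m}
                          mul_mem' := fun {a b} (ha : α a = a) (hb : α b = b) =>
                            show α (a * b) = a * b by rw [map_mul, ha, hb]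
                          one_mem' := map_one α
                          inv_mem' := fun {a} (ha : α a = a) => show α a⁻¹ = a⁻¹ by rw [map_inv, ha] }
  have hdvd : Nat.card M ∣ Nat.card C := by
    rw [Nat.dvd_iff_prime_pow_dvd_dvd]
    intro q k hq hqk
    rcases Nat.eq_zero_or_pos k with rfl | hk
    · simp
    haveI := Fact.mk hq
    obtain ⟨Q, hQ⟩ : (MulAction.fixedPoints Γ (Sylow q M)).Nonempty := by
      refine hΓ.nonempty_fixed_point_of_prime_not_dvd_card _ fun h => ?_
      obtain ⟨Q₀⟩ := (inferInstance : Nonempty (Sylow q M))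
      have h1 : Nat.card (Sylow q M) ∣ 1539000 :=
        (Q₀.card_dvd_index.trans (Subgroup.index_dvd_card _)).trans hM
      exact absurd (h.trans h1) (by norm_num)
    have hinv : ∀ g : Γ, ∀ m ∈ (Q : Subgroup M), g.1 m ∈ (Q : Subgroup M) := by
      intro g m hm
      have e : (g • Q : Sylow q M) = Q := hQ g
      rw [← e]
      exact Subgroup.smul_mem_pointwise_smul m g _ hm
    let act : MulAction Γ (Q : Subgroup M) :=
      { smul := fun g m => ⟨g.1 m.1, hinv g m.1 m.2⟩
        one_smul := fun m => Subtype.ext rfl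
        mul_smul := fun g g' m => Subtype.ext rfl }
    have hmod := @IsPGroup.card_modEq_card_fixedPoints 11 Γ _ hΓ _ (Q : Subgroup M) act _
    have hfix : Nat.card (@MulAction.fixedPoints Γ (Q : Subgroup M) _ act) =
        Nat.card (C.subgroupOf (Q : Subgroup M)) := by
      refine Nat.card_congr (Equiv.subtypeEquivRight fun m => ?_)
      constructor
      · intro h
        exact congrArg Subtype.val (h ⟨α, Subgroup.mem_zpowers α⟩)
      · intro h
        rintro ⟨g, hg⟩
        have hle : Γ ≤ MulAction.stabilizer (MulAut M) m.1 := Subgroup.zpowers_le.2 h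
        exact Subtype.ext (hle hg)
    rw [hfix] at hmod
    obtain ⟨e, he⟩ := IsPGroup.iff_card.1 Q.isPGroup'
    obtain ⟨j, hje, hj⟩ := (Nat.dvd_prime_pow hq).1 (he ▸ Subgroup.card_subgroup_dvd_card (C.subgroupOf (Q : Subgroup M)))
    rw [he, hj] at hmod
    have hke : k ≤ e := by
      have := Q.pow_dvd_card_of_pow_dvd_card hqk
      rw [he] at this
      exact (Nat.pow_dvd_pow_iff_le_right hq.one_lt).1 this
    have hqe : q ^ e ∣ 1539000 := (he ▸ Subgroup.card_subgroup_dvd_card (Q : Subgroup M)).trans hM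
    have hq4 : q ∈ [2, 3, 5, 19] := by
      have h1 : q ∣ 1539000 := (dvd_pow_self q hk.ne').trans ((pow_dvd_pow q hke).trans hqe)
      have h2 : q ∣ 2 ^ 3 * (3 ^ 4 * (5 ^ 3 * 19)) := h1.trans (dvd_of_eq (by norm_num))
      rcases hq.dvd_mul.1 h2 with h | h
      · simp [(Nat.prime_dvd_prime_iff_eq hq Nat.prime_two).1 (hq.dvd_of_dvd_pow h)]
      rcases hq.dvd_mul.1 h with h | h
      · simp [(Nat.prime_dvd_prime_iff_eq hq Nat.prime_three).1 (hq.dvd_of_dvd_pow h)]
      rcases hq.dvd_mul.1 h with h | h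
      · simp [(Nat.prime_dvd_prime_iff_eq hq Nat.prime_five).1 (hq.dvd_of_dvd_pow h)]
      · simp [(Nat.prime_dvd_prime_iff_eq hq (by norm_num : (19 : ℕ).Prime)).1 h]
    have he5 : e < 5 := by
      by_contra hcon
      have h5 : q ^ 5 ∣ 1539000 := (pow_dvd_pow q (not_lt.1 hcon)).trans hqe
      simp only [List.mem_cons, List.not_mem_nil, or_false] at hq4
      rcases hq4 with rfl | rfl | rfl | rfl <;> norm_num at h5
    have hje' := pow_mod_inj q hq4 e he5 j (lt_of_le_of_lt hje he5) hqe hje hmod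
    have : q ^ k ∣ Nat.card (C.subgroupOf (Q : Subgroup M)) := by
      rw [hj, hje']; exact pow_dvd_pow q hke
    refine this.trans ?_
    rw [Nat.card_congr (Subgroup.equivMapOfInjective _ _ (Q : Subgroup M).subtype_injective).toEquiv,
      Subgroup.subgroupOf_map_subtype]
    exact Subgroup.card_dvd_of_le inf_le_left
  have : C = ⊤ := Subgroup.eq_top_of_card_eq _ (Nat.dvd_antisymm (Subgroup.card_subgroup_dvd_card C) hdvd)
  exact fun m => (this ▸ Subgroup.mem_top m : m ∈ C)

/-- **Simplicity and order** from the index and the absence of other fixed cosets. -/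
theorem isHN_of_index (hidx : N.index = 1539000)
    (hfix : ∀ g : Cfsg.Spor.HN, (∀ n ∈ N, g⁻¹ * n * g ∈ N) → g ∈ N) : Cfsg.IsHN Cfsg.Spor.HN := by
  have hcard := card_HN hidx
  haveI : Finite Cfsg.Spor.HN := Nat.finite_of_card_ne_zero (by rw [hcard]; norm_num)
  haveI := finite_T
  haveI : Nontrivial Cfsg.Spor.HN := Finite.one_lt_card_iff_nontrivial.1 (by rw [hcard]; norm_num)
  refine ⟨⟨fun M hM => ?_⟩, hcard⟩
  by_cases htop : M = ⊤
  · exact Or.inr htop
  left
  have hbot : M.comap psi = ⊥ := by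
    by_contra h
    exact htop (top_of_meets h)
  have hinf : M ⊓ N = ⊥ := by
    rw [eq_bot_iff]
    rintro _ ⟨hm, t, rfl⟩
    have : t ∈ M.comap psi := hm
    rw [hbot, Subgroup.mem_bot] at this
    rw [this, map_one]; exact one_mem _
  have hdvd : Nat.card M ∣ 1539000 := by
    have h1 : Nat.card N = M.relIndex N := by
      rw [Subgroup.relIndex, show M.subgroupOf N = ⊥ by rw [Subgroup.subgroupOf_eq_bot, disjoint_iff]; exact hinf,
        Subgroup.index_bot]
    have h2 : M.relIndex N ∣ M.index := Subgroup.relIndex_dvd_index_of_normal M N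
    obtain ⟨c, hc⟩ := h2
    refine ⟨c, ?_⟩
    have h3 := Subgroup.card_mul_index M
    rw [hc, ← h1, card_N, hcard] at h3
    have : Nat.card M * c * 177408000 = 1539000 * 177408000 := by
      rw [mul_assoc, mul_comm c]
      exact h3.trans (by norm_num)
    exact (Nat.eq_of_mul_eq_mul_right (by norm_num) this).symm
  haveI : Fact (Nat.Prime 11) := ⟨by norm_num⟩
  obtain ⟨h, hh⟩ := exists_prime_orderOf_dvd_card' (G := T) 11 (by rw [card_T]; norm_num)
  have hcent : ∀ m ∈ M, psi h * m = m * psi h := by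
    intro m hm
    have hα : (MulAut.conjNormal (psi h) : MulAut M) ^ 11 = 1 := by
      rw [← map_pow, ← map_pow, ← hh, pow_orderOf_eq_one, map_one, map_one]
    have := congrArg Subtype.val (aut_eleven hdvd _ hα ⟨m, hm⟩)
    rw [MulAut.conjNormal_apply] at this
    exact mul_inv_eq_iff_eq_mul.1 this
  have hC : Subgroup.centralizer (M : Set Cfsg.Spor.HN) = ⊤ := by
    refine top_of_meets fun h0 => ?_
    have hmem : h ∈ (Subgroup.centralizer (M : Set Cfsg.Spor.HN)).comap psi :=
      Subgroup.mem_centralizer_iff.2 fun m hm => (hcent m hm).symm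
    rw [h0, Subgroup.mem_bot] at hmem
    rw [hmem, orderOf_one] at hh
    norm_num at hh
  rw [eq_bot_iff]
  intro m hm
  have hmN : m ∈ N := hfix m fun n hn => by
    have hc : n ∈ Subgroup.centralizer (M : Set Cfsg.Spor.HN) := hC ▸ Subgroup.mem_top n
    rwa [mul_assoc, ← Subgroup.mem_centralizer_iff.1 hc m hm, inv_mul_cancel_left]
  rw [← hinf]
  exact ⟨hm, hmN⟩

end CfsgLib.Presented.HNxyz
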