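import Cfsg.Agent.Lib.Presented.HNxyz.Group
import Cfsg.Agent.Lib.Presented.BaseChain
import Cfsg.Agent.Lib.Presented.Cert.HNPerm
import Cfsg.Agent.Lib.Steiner.RankThreeHS

/-!
The action on a hundred points of the group on x, y, z.
-/
set_option autoImplicit false
set_option maxRecDepth 8000

namespace CfsgLib.Presented.HNxyz

open HNPerm (rep stabWords adjRows orb_a orb_b pt_a pt_b rounds_a rounds_b)

theorem rep_valid : rep.valid = true := by decide +kernel

theorem exists_phi : ∃ φ : T →* Equiv.Perm (Fin rep.N),
    ∀ x, x < HNT.alphabet.eps → φ (ev x) = rep.perm rep_valid x :=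
  Letters.exists_rep (L := letters) (ws := HNT.relWords) rfl letters_valid nodes_valid full relWords_eq rep_valid
    (by decide +kernel)

/-- the action -/
noncomputable def phi : T →* Equiv.Perm (Fin rep.N) := exists_phi.choose

theorem phi_ev : ∀ x, x < HNT.alphabet.eps → phi (ev x) = rep.perm rep_valid x := exists_phi.choose_spec

theorem phi_evW {w : List ℕ} (hw : ∀ y ∈ w, y < 6) : phi (evW ev w) = evW (rep.perm rep_valid) w := by
  simp only [evW, map_list_prod, List.map_map]
  rw [List.map_congr_left (f := ⇑phi ∘ ev) (g := rep.perm rep_valid) fun x hx => phi_ev x (hw x hx)]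

/-- a number as a point -/
def pt (i : ℕ) (h : i < 100) : Fin rep.N := ⟨i, h⟩

/-- adjacency, read off the rows -/
def Adj (i j : Fin rep.N) : Bool := (adjRows.getD i 0).testBit j

theorem adj_gen : ∀ x < 6, ∀ i j : Fin rep.N, Adj (rep.perm rep_valid x i) (rep.perm rep_valid x j) = Adj i j := by
  have h : ((List.range 6).all fun x => (List.range 100).all fun i =>
      Nat.beq (Vec.applyNet (rep.net x) (adjRows.getD (Vec.netPerm (rep.net x) i) 0)) (adjRows.getD i 0)) = true := by
    decide +kernel
  simp only [List.all_eq_true, List.mem_range] at h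
  intro x hx i j
  rw [Adj, Adj, Rep.perm_val, Rep.perm_val, ← Nat.eq_of_beq_eq_true (h x hx i i.2),
    Vec.testBit_applyNet ((Rep.valid_spec rep_valid).2.2.1 x)]

theorem adj_phi (g : T) : ∀ i j, Adj (phi g i) (phi g j) = Adj i j := by
  have hmem : g ∈ Subgroup.closure (ev '' {x | x ∈ [0, 2, 4]}) := gen_top ▸ Subgroup.mem_top g
  induction hmem using Subgroup.closure_induction with
  | mem y hy =>
    obtain ⟨x, hx, rfl⟩ := hy
    have hx6 : x < 6 := (show ∀ x ∈ [0, 2, 4], x < 6 by decide) x hx
    intro i j
    rw [phi_ev x hx6]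
    exact adj_gen x hx6 i j
  | one => simp
  | mul a b _ _ iha ihb => intro i j; rw [map_mul, Equiv.Perm.mul_apply, Equiv.Perm.mul_apply, iha, ihb]
  | inv a _ ih =>
    intro i j
    have := ih (phi a⁻¹ i) (phi a⁻¹ j)
    rwa [← Equiv.Perm.mul_apply, ← Equiv.Perm.mul_apply, ← map_mul, mul_inv_cancel, map_one,
      Equiv.Perm.one_apply, Equiv.Perm.one_apply, eq_comm] at this

theorem stabWords_lt : ∀ w ∈ stabWords, ∀ y ∈ w, y < 6 := by decide

theorem stabWords_fix : ∀ w ∈ stabWords, phi (evW ev w) (pt 0 (by norm_num)) = pt 0 (by norm_num) := by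
  have h : (stabWords.all fun w => (Vec.applyNet (rep.netW w) 1).testBit 0) = true := by decide +kernel
  simp only [List.all_eq_true] at h
  intro w hw
  rw [phi_evW (stabWords_lt w hw)]
  apply Fin.ext
  rw [Rep.netW_perm rep_valid]
  have hb := h w hw
  rw [Vec.testBit_applyNet (Rep.netOk_netW rep_valid w)] at hb
  exact VCert.one_bit hb

/-- the subgroup generated by the stabilising words -/
noncomputable def S : Subgroup T := Subgroup.closure ((fun w => evW ev w) '' {w | w ∈ stabWords})

theorem ncard_bits {O n : ℕ}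
    (h : (Finset.filter (fun j : Fin rep.N => O.testBit (j : ℕ) = true) Finset.univ).card = n) :
    {j : Fin rep.N | O.testBit (j : ℕ) = true}.ncard = n := by
  rw [← h, ← Set.ncard_coe_finset]
  congr 1
  ext j
  simp

variable {P : Subgroup (Equiv.Perm (Fin rep.N))}

/-- suborbits of a subgroup between the stabilising words and the whole image -/
theorem orbits (hP : P ≤ phi.range) (hS : S.map phi ≤ P) :
    (MulAction.orbit (MulAction.stabilizer P (pt 0 (by norm_num))) (pt pt_a (by decide))).ncard = 22 ∧
    (MulAction.orbit (MulAction.stabilizer P (pt 0 (by norm_num))) (pt pt_b (by decide))).ncard = 77 := by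
  have hfix : ∀ h ∈ S, phi h (pt 0 (by norm_num)) = pt 0 (by norm_num) := by
    intro h hh
    induction hh using Subgroup.closure_induction with
    | mem y hy => obtain ⟨w, hw, rfl⟩ := hy; exact stabWords_fix w hw
    | one => simp
    | mul a b _ _ iha ihb => rw [map_mul, Equiv.Perm.mul_apply, ihb, iha]
    | inv a _ ih => rw [map_inv]; exact (Equiv.symm_apply_eq _).2 ih.symm
  have hinv : ∀ g : MulAction.stabilizer P (pt 0 (by norm_num)), ∀ j,
      orb_a.testBit ((g • j : Fin rep.N) : ℕ) = orb_a.testBit (j : ℕ) := by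
    rintro ⟨⟨g, hg⟩, h0⟩ j
    obtain ⟨t, rfl⟩ := hP hg
    have e : adjRows.getD 0 0 = orb_a := by decide +kernel
    have h0' : phi t (pt 0 (by norm_num)) = pt 0 (by norm_num) := h0
    have := adj_phi t (pt 0 (by norm_num)) j
    rw [h0'] at this
    rw [← e]
    exact this
  have hup : ∀ O i (hi : i < 100) r, orbitOK rep stabWords i r O = true → ∀ j : Fin rep.N,
      O.testBit (j : ℕ) = true → j ∈ MulAction.orbit (MulAction.stabilizer P (pt 0 (by norm_num))) (pt i hi) := by
    intro O i hi r hok j hj
    obtain ⟨h, hh, he⟩ := (orbit_eq_of_ok rep_valid hok phi phi_ev (H := S) rfl hi j).2 hj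
    exact ⟨⟨⟨phi h, hS (Subgroup.mem_map_of_mem _ hh)⟩, hfix h hh⟩, he⟩
  have hoa : orbitOK rep stabWords pt_a rounds_a orb_a = true := by decide +kernel
  have hob : orbitOK rep stabWords pt_b rounds_b orb_b = true := by decide +kernel
  constructor
  · rw [show MulAction.orbit (MulAction.stabilizer P (pt 0 (by norm_num))) (pt pt_a (by decide))
        = {j : Fin rep.N | orb_a.testBit (j : ℕ) = true} from ?_]
    · exact ncard_bits (by decide +kernel)
    · ext j
      refine ⟨?_, hup _ _ _ _ hoa j⟩
      rintro ⟨g, rfl⟩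
      show orb_a.testBit _ = true
      rw [hinv g (pt pt_a (by decide))]
      decide +kernel
  · rw [show MulAction.orbit (MulAction.stabilizer P (pt 0 (by norm_num))) (pt pt_b (by decide))
        = {j : Fin rep.N | orb_b.testBit (j : ℕ) = true} from ?_]
    · exact ncard_bits (by decide +kernel)
    · ext j
      refine ⟨?_, hup _ _ _ _ hob j⟩
      rintro ⟨g, rfl⟩
      have hcases : ∀ k : Fin rep.N, k = pt 0 (by norm_num) ∨ orb_a.testBit (k : ℕ) = true ∨
          orb_b.testBit (k : ℕ) = true := by
        decide +kernel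
      rcases hcases (g • pt pt_b (by decide)) with h | h | h
      · exfalso
        have h0 : g • pt 0 (by norm_num) = pt 0 (by norm_num) := g.2
        have : pt pt_b (by decide) = pt 0 (by norm_num) := smul_left_cancel g (h.trans h0.symm)
        revert this
        decide +kernel
      · exfalso
        rw [hinv g (pt pt_b (by decide))] at h
        revert h
        decide +kernel
      · exact h

theorem pretransitive (hx : phi gx ∈ P) (hy : phi gy ∈ P) : MulAction.IsPretransitive P (Fin rep.N) := by
  have hok : orbitOK rep [[0], [2]] 0 100 (Vec.ones 100) = true := by decide +kernel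
  have hO : ∀ j : Fin rep.N, ∃ g : P, g • pt 0 (by norm_num) = j := by
    intro j
    obtain ⟨h, hh, he⟩ := (orbit_eq_of_ok rep_valid hok phi phi_ev
      (H := Subgroup.closure ((fun w => evW ev w) '' {w | w ∈ [[0], [2]]})) rfl (show 0 < rep.N by decide) j).2
      (by rw [Vec.testBit_ones]; exact decide_eq_true j.2)
    have hmem : phi h ∈ P := by
      have : h ∈ P.comap phi := by
        refine (Subgroup.closure_le _).2 ?_ hh
        rintro _ ⟨w, hw, rfl⟩
        obtain ⟨h0, -, h2, -⟩ := ev_vals
        simp only [Set.mem_ofPred_eq, List.mem_cons, List.not_mem_nil, or_false] at hw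
        rcases hw with rfl | rfl <;> simp [h0, h2, hx, hy]
      exact this
    exact ⟨⟨phi h, hmem⟩, he⟩
  refine ⟨fun a b => ?_⟩
  obtain ⟨g, rfl⟩ := hO a
  obtain ⟨g', rfl⟩ := hO b
  exact ⟨g' * g⁻¹, by rw [smul_smul, inv_mul_cancel_right]⟩

theorem card_range : Nat.card phi.range = 88704000 := by
  refine le_antisymm ?_ ?_
  · have hS : S.map phi ≤ phi.range := fun y hy => by
      obtain ⟨s, -, rfl⟩ := hy; exact ⟨s, rfl⟩
    obtain ⟨h22, h77⟩ := orbits le_rfl hS
    haveI := pretransitive (P := phi.range) ⟨_, rfl⟩ ⟨_, rfl⟩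
    obtain ⟨Γ, _, hsrg, hinv⟩ := Steiner.RankThreeHundred.exists_graph (G := phi.range)
      (show Fintype.card (Fin rep.N) = 100 from Fintype.card_fin _)
      (pt 0 (by norm_num)) (pt pt_a (by decide)) (pt pt_b (by decide)) h22 h77
    obtain ⟨f, hf⟩ := Steiner.RankThreeHundred.exists_hom_injective hinv
    haveI : Finite (Γ ≃g Γ) := Finite.of_injective _ (Steiner.HigmanSims.toPerm_injective Γ)
    exact (Nat.card_le_card_of_injective f hf).trans_eq (Steiner.RankThreeHundred.card_aut hsrg)
  · refine (show 88704000 = chainProd HNPerm.levels by decide +kernel).le.trans ?_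
    exact chainProd_le_card_range rep_valid (A' := HNPerm.extAlphabet) (new := HNPerm.new) (by decide +kernel) phi phi_ev
      (Ls := HNPerm.levels) (L := HNPerm.level0) rfl (by decide +kernel) (by decide +kernel)

theorem sign_gz : Equiv.Perm.sign (phi gz) = -1 := by
  have e : phi gz = rep.perm rep_valid 4 := by
    rw [← phi_ev 4 (by decide), ev_vals.2.2.2.2.1]
  have h2 : phi gz * phi gz = 1 := by rw [← map_mul, ← pow_two, rel6, map_one]
  obtain ⟨m, hm, hs⟩ := Steiner.HigmanSims.sign_of_involution (phi gz) h2
  have hcount : ((Finset.univ : Finset (Fin rep.N)).filter fun x => phi gz x = x).card = 30 := by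
    rw [e]
    decide +kernel
  rw [hcount, Fintype.card_fin] at hm
  have h35 : m = 35 := by
    have : rep.N = 100 := rfl
    omega
  rw [hs, h35]
  decide

theorem phi_sq : phi (gx ^ 2) = 1 := by
  rw [map_pow, ← ev_vals.1, phi_ev 0 (by decide)]
  decide +kernel

end CfsgLib.Presented.HNxyz
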