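import Cfsg.Agent.Lib.Presented.HNxyz.Rep
import Cfsg.Agent.Lib.Presented.Cert.HNMatA12
import Cfsg.Agent.S3335
import Mathlib.GroupTheory.SpecificGroups.Alternating.Simple

/-!
If the representation of dimension 133 is faithful, the presented Harada-Norton group has an alternating subgroup
of degree twelve (generators as words, relations checked on the matrices).
-/
set_option autoImplicit false
set_option maxRecDepth 8000

namespace CfsgLib.Presented.HNxyz

open Cfsg.Spor MatCheck

/-- the matrices of the letters followed by those of the new elements -/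
noncomputable abbrev gens2 : List Rows := HNMat.gens ++ HNMatA12.gens

/-- the values of the letters -/
noncomputable abbrev evHN : ℕ → Cfsg.Spor.HN := lettersHN.ev fun g => PresentedGroup.of g

theorem data2_ok : dataOK 133 10 HNMat.idx gens2 = true := by decide +kernel

/-- the checked words: definitions of the new elements, then the relations -/
def defWords : List (List ℕ) :=
  [HNMatA12.wordW ++ [9], HNMatA12.wordWinv ++ [8], [8, 9], [9, 8],
    HNMatA12.baseWords.getD 0 [] ++ [10, 10], HNMatA12.baseWords.getD 1 [] ++ [11],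
    HNMatA12.baseWords.getD 2 [] ++ [12], HNMatA12.baseWords.getD 3 [] ++ [13],
    HNMatA12.baseWords.getD 4 [] ++ [14],
    [8, 14, 9, 15], [8, 15, 9, 16], [8, 16, 9, 17], [8, 17, 9, 18], [8, 18, 9, 19]]

/-- the relations -/
def relWordsA12 : List (List ℕ) :=
  [[10, 10, 10]] ++ (List.range 9).map (fun i => [11 + i, 11 + i]) ++
    (List.range 9).map (fun i => [10 + i, 11 + i, 10 + i, 11 + i, 10 + i, 11 + i]) ++
    ((List.range 10).flatMap fun i => ((List.range 10).filter fun j => decide (i + 1 < j)).map fun j =>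
      [10 + i, 10 + j, 10 + i, 10 + j])

theorem def_words_ok : (defWords.all fun w => check 133 11 10 HNMat.idx gens2 w) = true := by decide +kernel

theorem rel_words_ok : (relWordsA12.all fun w => check 133 11 10 HNMat.idx gens2 w) = true := by decide +kernel

/-- the matrices -/
noncomputable irreducible_def mat2 (x : ℕ) : Matrix (Fin 133) (Fin 133) (ZMod 11) := mat 133 11 gens2 x

theorem mat2_fun : mat2 = fun x => mat 133 11 gens2 x := funext fun x => mat2_def x

theorem prod_mat2 {w : List ℕ} (hw : w ∈ defWords ++ relWordsA12) : (w.map mat2).prod = 1 := by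
  rcases List.mem_append.1 hw with h | h
  · have h' := def_words_ok
    simp only [List.all_eq_true] at h'
    rw [mat2_fun]
    exact (check_spec data2_ok (h' w h)).2
  · have h' := rel_words_ok
    simp only [List.all_eq_true] at h'
    rw [mat2_fun]
    exact (check_spec data2_ok (h' w h)).2

theorem rho_ev (x : ℕ) (hx : x < 8) : ((rho (evHN x) : GL (Fin 133) (ZMod 11)) : Matrix _ _ _) = mat2 x := by
  rw [mat2_def]
  interval_cases x <;>
    · simp only [evHN, Letters.ev, lettersHN, genHN, Nat.reduceLT, if_true, cond_true, cond_false, map_inv, rho,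
        PresentedGroup.toGroup.of]
      rfl

theorem rho_evW {w : List ℕ} (hw : ∀ y ∈ w, y < 8) :
    ((rho (evW evHN w) : GL (Fin 133) (ZMod 11)) : Matrix _ _ _) = (w.map mat2).prod := by
  induction w with
  | nil => simp
  | cons a w ih =>
    rw [evW_cons, map_mul, Units.val_mul, ih (fun y hy => hw y (List.mem_cons_of_mem _ hy)),
      rho_ev a (hw a List.mem_cons_self), List.map_cons, List.prod_cons]

/-- a seven-cycle -/
noncomputable def elW : Cfsg.Spor.HN := evW evHN HNMatA12.wordW

/-- the generators -/
noncomputable def elA : ℕ → Cfsg.Spor.HN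
  | 0 => evW evHN (HNMatA12.baseWords.getD 0 [])
  | 1 => evW evHN (HNMatA12.baseWords.getD 1 [])
  | 2 => evW evHN (HNMatA12.baseWords.getD 2 [])
  | 3 => evW evHN (HNMatA12.baseWords.getD 3 [])
  | 4 => evW evHN (HNMatA12.baseWords.getD 4 [])
  | n + 5 => elW * elA (n + 4) * elW⁻¹

theorem eq_of_mul_eq {a b c : Matrix (Fin 133) (Fin 133) (ZMod 11)} (h1 : a * b = 1) (h2 : c * b = 1) (h3 : b * c = 1) :
    a = c := by
  calc a = a * (b * c) := by rw [h3, mul_one]
    _ = c := by rw [← mul_assoc, h1, one_mul]

theorem rho_elW : ((rho elW : GL (Fin 133) (ZMod 11)) : Matrix _ _ _) = mat2 8 ∧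
    ((rho elW⁻¹ : GL (Fin 133) (ZMod 11)) : Matrix _ _ _) = mat2 9 := by
  have hlt : ∀ y ∈ HNMatA12.wordW, y < 8 := by decide
  have e1 := prod_mat2 (w := HNMatA12.wordW ++ [9]) (List.mem_append_left _ (by decide))
  rw [List.map_append, List.prod_append, ← rho_evW hlt] at e1
  simp only [List.map_cons, List.map_nil, List.prod_cons, List.prod_nil, mul_one] at e1
  have e2 : mat2 8 * mat2 9 = 1 := by simpa using prod_mat2 (w := [8, 9]) (List.mem_append_left _ (by decide))
  have e3 : mat2 9 * mat2 8 = 1 := by simpa using prod_mat2 (w := [9, 8]) (List.mem_append_left _ (by decide))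
  have h8 : ((rho elW : GL (Fin 133) (ZMod 11)) : Matrix _ _ _) = mat2 8 := eq_of_mul_eq e1 e2 e3
  refine ⟨h8, ?_⟩
  have hinv : ((rho elW⁻¹ : GL (Fin 133) (ZMod 11)) : Matrix _ _ _) * mat2 8 = 1 := by
    rw [← h8, ← Units.val_mul, ← map_mul, inv_mul_cancel, map_one, Units.val_one]
  exact eq_of_mul_eq hinv e3 e2

theorem rho_elA : ∀ i < 10, ((rho (elA i) : GL (Fin 133) (ZMod 11)) : Matrix _ _ _) = mat2 (10 + i) := by
  have sq : ∀ i < 9, mat2 (11 + i) * mat2 (11 + i) = 1 := fun i hi => by
    simpa using prod_mat2 (w := [11 + i, 11 + i])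
      (List.mem_append_right _ (by interval_cases i <;> decide))
  have cube : mat2 10 * (mat2 10 * mat2 10) = 1 := by
    simpa using prod_mat2 (w := [10, 10, 10]) (List.mem_append_right _ (by decide))
  have hlt : ∀ k < 5, ∀ y ∈ HNMatA12.baseWords.getD k [], y < 8 := by decide
  have base0 : ((rho (elA 0) : GL (Fin 133) (ZMod 11)) : Matrix _ _ _) = mat2 10 := by
    have e1 := prod_mat2 (w := HNMatA12.baseWords.getD 0 [] ++ [10, 10]) (List.mem_append_left _ (by decide))
    rw [List.map_append, List.prod_append, ← rho_evW (hlt 0 (by norm_num))] at e1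
    simp only [List.map_cons, List.map_nil, List.prod_cons, List.prod_nil, mul_one] at e1
    exact eq_of_mul_eq e1 cube (by rw [mul_assoc]; exact cube)
  have base : ∀ k, 1 ≤ k → k < 5 → HNMatA12.baseWords.getD k [] ++ [10 + k] ∈ defWords →
      ((rho (evW evHN (HNMatA12.baseWords.getD k [])) : GL (Fin 133) (ZMod 11)) : Matrix _ _ _) = mat2 (10 + k) := by
    intro k h1 h5 hmem
    have e1 := prod_mat2 (List.mem_append_left _ hmem)
    rw [List.map_append, List.prod_append, ← rho_evW (hlt k h5)] at e1
    simp only [List.map_cons, List.map_nil, List.prod_cons, List.prod_nil, mul_one] at e1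
    have := sq (k - 1) (by omega)
    rw [show 11 + (k - 1) = 10 + k by omega] at this
    exact eq_of_mul_eq e1 this this
  have step : ∀ n < 5, ((rho (elA (n + 4)) : GL (Fin 133) (ZMod 11)) : Matrix _ _ _) = mat2 (10 + (n + 4)) →
      ((rho (elA (n + 5)) : GL (Fin 133) (ZMod 11)) : Matrix _ _ _) = mat2 (10 + (n + 5)) := by
    intro n hn ih
    have e1 := prod_mat2 (w := [8, 14 + n, 9, 15 + n]) (List.mem_append_left _ (by interval_cases n <;> decide))
    simp only [List.map_cons, List.map_nil, List.prod_cons, List.prod_nil, mul_one, ← mul_assoc] at e1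
    have := sq (n + 4) (by omega)
    rw [elA, map_mul, map_mul, Units.val_mul, Units.val_mul, rho_elW.1, rho_elW.2, ih,
      show 10 + (n + 4) = 14 + n by omega, show 10 + (n + 5) = 15 + n by omega]
    rw [show 11 + (n + 4) = 15 + n by omega] at this
    exact eq_of_mul_eq e1 this this
  intro i hi
  interval_cases i
  · exact base0
  · exact base 1 le_rfl (by norm_num) (by decide)
  · exact base 2 (by norm_num) (by norm_num) (by decide)
  · exact base 3 (by norm_num) (by norm_num) (by decide)
  · exact base 4 (by norm_num) (by norm_num) (by decide)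
  · exact step 0 (by norm_num) (base 4 (by norm_num) (by norm_num) (by decide))
  · exact step 1 (by norm_num) (step 0 (by norm_num) (base 4 (by norm_num) (by norm_num) (by decide)))
  · exact step 2 (by norm_num) (step 1 (by norm_num) (step 0 (by norm_num) (base 4 (by norm_num) (by norm_num) (by decide))))
  · exact step 3 (by norm_num) (step 2 (by norm_num) (step 1 (by norm_num) (step 0 (by norm_num)
      (base 4 (by norm_num) (by norm_num) (by decide)))))
  · exact step 4 (by norm_num) (step 3 (by norm_num) (step 2 (by norm_num) (step 1 (by norm_num) (step 0 (by norm_num)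
      (base 4 (by norm_num) (by norm_num) (by decide))))))

theorem rel_elA (hinj : Function.Injective rho) {ws : List ℕ} (hlt : ∀ y ∈ ws, y < 10)
    (hmem : ws.map (fun i => 10 + i) ∈ relWordsA12) : (ws.map elA).prod = 1 := by
  apply hinj
  rw [map_one, map_list_prod]
  apply Units.ext
  rw [Units.val_one, ← Units.coeHom_apply, map_list_prod, List.map_map, List.map_map,
    ← prod_mat2 (List.mem_append_right _ hmem), List.map_map]
  exact congrArg List.prod (List.map_congr_left fun y hy => rho_elA y (hlt y hy))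

theorem psi_ne : rho (elA 1) ≠ 1 := by
  intro h
  have e := rho_elA 1 (by norm_num)
  rw [h, Units.val_one] at e
  have hbad : ((List.range 133).all fun i => Nat.beq (coeff ((rowsOf gens2 11).get i) i % 11) 1) = false := by
    decide +kernel
  have hall : ((List.range 133).all fun i => Nat.beq (coeff ((rowsOf gens2 11).get i) i % 11) 1) = true := by
    simp only [List.all_eq_true, List.mem_range]
    intro i hi
    have h' := congrFun (congrFun e ⟨i, hi⟩) ⟨i, hi⟩
    rw [Matrix.one_apply_eq, mat2_def] at h'
    change (1 : ZMod 11) = ((coeff ((rowsOf gens2 11).get i) i : ℕ) : ZMod 11) at h'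
    haveI : Fact (1 < 11) := ⟨by norm_num⟩
    have := congrArg ZMod.val h'
    rw [ZMod.val_natCast, ZMod.val_one] at this
    rw [← this]
    exact Nat.beq_refl 1
  rw [hbad] at hall
  exact absurd hall (by simp)

/-- an alternating subgroup of degree twelve -/
theorem exists_alt12 (hinj : Function.Injective rho) :
    ∃ H : Subgroup Cfsg.Spor.HN, Nonempty (H ≃* alternatingGroup (Fin 12)) := by
  obtain ⟨e⟩ := Cfsg.Agent.S3335.result 12 (by norm_num)
  let f : Fin (12 - 2) → Cfsg.Spor.HN := fun i => elA i
  have hb : ∀ i : Fin (12 - 2), (i : ℕ) < 10 := fun i => i.2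
  have hk : ∀ r ∈ (({g : FreeGroup (Fin (12 - 2)) | ∃ i : Fin (12 - 2), i.val = 0 ∧ g = FreeGroup.of i ^ 3} ∪
       {g | ∃ i : Fin (12 - 2), 1 ≤ i.val ∧ g = FreeGroup.of i ^ 2} ∪
       {g | ∃ i j : Fin (12 - 2), j.val = i.val + 1 ∧ g = (FreeGroup.of i * FreeGroup.of j) ^ 3} ∪
       {g | ∃ i j : Fin (12 - 2), i.val + 1 < j.val ∧ g = (FreeGroup.of i * FreeGroup.of j) ^ 2}) :
       Set (FreeGroup (Fin (12 - 2)))), FreeGroup.lift f r = 1 := by
    rintro r (((⟨i, hi, rfl⟩ | ⟨i, hi, rfl⟩) | ⟨i, j, hij, rfl⟩) | ⟨i, j, hij, rfl⟩)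
    · have := rel_elA hinj (ws := [0, 0, 0]) (by decide) (by decide)
      simpa [f, hi, pow_succ, mul_assoc] using this
    · have h2 : [(i : ℕ), (i : ℕ)].map (fun k => 10 + k) ∈ relWordsA12 :=
        (show ∀ k < 10, 1 ≤ k → [10 + k, 10 + k] ∈ relWordsA12 by decide) i (hb i) hi
      have := rel_elA hinj (ws := [(i : ℕ), (i : ℕ)]) (by simp [hb i]) h2
      simpa [f, pow_succ, mul_assoc] using this
    · have h2 : [(i : ℕ), j, i, j, i, j].map (fun k => 10 + k) ∈ relWordsA12 := by
        have := (show ∀ k < 9, [10 + k, 11 + k, 10 + k, 11 + k, 10 + k, 11 + k] ∈ relWordsA12 by decide) i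
          (by have := hb j; omega)
        show [10 + (i : ℕ), 10 + j, 10 + i, 10 + j, 10 + i, 10 + j] ∈ relWordsA12
        rw [show 10 + (j : ℕ) = 11 + i by omega]
        exact this
      have := rel_elA hinj (ws := [(i : ℕ), j, i, j, i, j]) (by simp [hb i, hb j]) h2
      simpa [f, pow_succ, mul_assoc] using this
    · have h2 : [(i : ℕ), j, i, j].map (fun k => 10 + k) ∈ relWordsA12 :=
        (show ∀ k < 10, ∀ l < 10, k + 1 < l → [10 + k, 10 + l, 10 + k, 10 + l] ∈ relWordsA12 by decide) i (hb i) j
          (hb j) hij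
      have := rel_elA hinj (ws := [(i : ℕ), j, i, j]) (by simp [hb i, hb j]) h2
      simpa [f, pow_succ, mul_assoc] using this
  let g : alternatingGroup (Fin 12) →* Cfsg.Spor.HN := (PresentedGroup.toGroup hk).comp e.symm.toMonoidHom
  have hg : Function.Injective g := by
    haveI : IsSimpleGroup (alternatingGroup (Fin 12)) := alternatingGroup.isSimpleGroup (by simp)
    rcases g.normal_ker.eq_bot_or_eq_top with h | h
    · exact g.ker_eq_bot_iff.1 h
    · exfalso
      have h1 : g (e (PresentedGroup.of ⟨1, by norm_num⟩)) = 1 := by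
        rw [← MonoidHom.mem_ker, h]; exact Subgroup.mem_top _
      simp only [g, MonoidHom.comp_apply, MulEquiv.coe_toMonoidHom, MulEquiv.symm_apply_apply,
        PresentedGroup.toGroup.of, f] at h1
      exact psi_ne (by rw [h1, map_one])
  exact ⟨g.range, ⟨(MonoidHom.ofInjective hg).symm⟩⟩

end CfsgLib.Presented.HNxyz
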