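import Cfsg.Agent.Lib.Presented.HNxyz.Group
import Cfsg.Agent.Lib.Presented.MatCheck
import Cfsg.Agent.Lib.Presented.Cert.HNMat
import Mathlib.LinearAlgebra.Matrix.GeneralLinearGroup.Defs
import Mathlib.Algebra.Field.ZMod

/-!
A representation of dimension 133 modulo 11 of the presented Harada-Norton group; in it the square of the
first generator is not trivial.
-/
set_option autoImplicit false
set_option maxRecDepth 8000

namespace CfsgLib.Presented.HNxyz

open Cfsg.Spor

/-- numbering -/
def idxHN : HN.Gen → ℕ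
  | .x => 0
  | .y => 2
  | .z => 4
  | .t => 6

/-- reading letters back -/
def genHN : ℕ → HN.Gen × Bool
  | 0 => (.x, true)
  | 1 => (.x, false)
  | 2 => (.y, true)
  | 3 => (.y, false)
  | 4 => (.z, true)
  | 5 => (.z, false)
  | 6 => (.t, true)
  | _ => (.t, false)

/-- the letters -/
def lettersHN : Letters HN.Gen :=
  ⟨⟨8, .leaf (1 + 0 * 2 ^ 6 + 3 * 2 ^ 12 + 2 * 2 ^ 18 + 5 * 2 ^ 24 + 4 * 2 ^ 30 + 7 * 2 ^ 36 + 6 * 2 ^ 42 + 8 * 2 ^ 48)⟩,
    idxHN, genHN, []⟩

theorem lettersHN_valid : lettersHN.valid = true := by decide +kernel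

theorem nodesHN_valid : lettersHN.nodesValid HN.edges = true := by decide +kernel

theorem fullHN : lettersHN.Full := fun g => by cases g <;> decide

open MatCheck

theorem mat_data_ok : dataOK 133 HNMat.sb HNMat.idx HNMat.gens = true := by decide +kernel

theorem mat_pairs_ok : ([[0, 1], [1, 0], [2, 3], [3, 2], [4, 5], [5, 4], [6, 7], [7, 6]].all fun w =>
    check 133 11 HNMat.sb HNMat.idx HNMat.gens w) = true := by decide +kernel

theorem mat_rels_ok : ((lettersHN.extraWords HN.extra).all fun w =>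
    check 133 11 HNMat.sb HNMat.idx HNMat.gens w) = true := by decide +kernel

/-- the matrices of the letters -/
noncomputable abbrev hnMat (x : ℕ) : Matrix (Fin 133) (Fin 133) (ZMod 11) := mat 133 11 HNMat.gens x

theorem mat_pair {a b : ℕ} (h : [a, b] ∈ [[0, 1], [1, 0], [2, 3], [3, 2], [4, 5], [5, 4], [6, 7], [7, 6]]) :
    hnMat a * hnMat b = 1 := by
  have h' := mat_pairs_ok
  simp only [List.all_eq_true] at h'
  simpa [hnMat] using (check_spec mat_data_ok (h' _ h)).2

/-- the images of the generators -/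
noncomputable def imgHN : HN.Gen → GL (Fin 133) (ZMod 11)
  | .x => ⟨hnMat 0, hnMat 1, mat_pair (by decide), mat_pair (by decide)⟩
  | .y => ⟨hnMat 2, hnMat 3, mat_pair (by decide), mat_pair (by decide)⟩
  | .z => ⟨hnMat 4, hnMat 5, mat_pair (by decide), mat_pair (by decide)⟩
  | .t => ⟨hnMat 6, hnMat 7, mat_pair (by decide), mat_pair (by decide)⟩

theorem imgHN_rels : ∀ w ∈ lettersHN.extraWords HN.extra, evW (lettersHN.ev imgHN) w = 1 := by
  intro w hw
  have h := mat_rels_ok
  simp only [List.all_eq_true] at h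
  obtain ⟨hlt, hp⟩ := check_spec mat_data_ok (h w hw)
  apply Units.ext
  rw [Units.val_one, ← hp, evW, ← Units.coeHom_apply, map_list_prod, List.map_map]
  refine congrArg List.prod (List.map_congr_left fun x hx => ?_)
  have hx8 : x < 8 := hlt x hx
  interval_cases x <;> rfl

theorem imgHN_kills : ∀ r ∈ coxRelators HN.edges ∪ {r | r ∈ HN.extra}, FreeGroup.lift imgHN r = 1 :=
  Letters.kills lettersHN_valid nodesHN_valid fullHN (fun g hg => absurd hg (List.not_mem_nil))
    (fun w hw => absurd (show w ∈ ([] : List (List ℕ)) from hw) (List.not_mem_nil)) imgHN_rels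

/-- the representation -/
noncomputable def rho : Cfsg.Spor.HN →* GL (Fin 133) (ZMod 11) := PresentedGroup.toGroup imgHN_kills

/-- the generators of the whole group -/
noncomputable def hnOf (g : Gen3) : Cfsg.Spor.HN := PresentedGroup.of (toHN g)

theorem extra3_map : ∀ r ∈ extra3.map (FreeGroup.map toHN), r ∈ HN.extra := by decide +kernel

theorem lift_hnOf : FreeGroup.lift hnOf =
    (PresentedGroup.mk (coxRelators HN.edges ∪ {r | r ∈ HN.extra})).comp (FreeGroup.map toHN) :=
  FreeGroup.ext_hom _ _ fun g => by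
    rw [FreeGroup.lift_apply_of, MonoidHom.comp_apply, FreeGroup.map.of]
    rfl

theorem hnOf_kills : ∀ r ∈ coxRelators ([] : List (Gen3 × ℕ × Gen3)) ∪ {r | r ∈ extra3},
    FreeGroup.lift hnOf r = 1 := by
  rintro r (⟨x, hx, -⟩ | hr)
  · exact absurd hx (by simp [coxNodes])
  · rw [lift_hnOf, MonoidHom.comp_apply]
    exact PresentedGroup.one_of_mem (Or.inr (extra3_map _ (List.mem_map_of_mem hr)))

/-- the map into the presented group -/
noncomputable def psi : T →* Cfsg.Spor.HN := PresentedGroup.toGroup hnOf_kills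

theorem psi_of (g : Gen3) : psi (PresentedGroup.of g) = PresentedGroup.of (toHN g) :=
  PresentedGroup.toGroup.of hnOf_kills

theorem psi_sq_ne : psi (gx ^ 2) ≠ 1 := by
  intro h
  have hr : rho (psi (gx ^ 2)) = 1 := by rw [h, map_one]
  rw [map_pow, map_pow, psi_of, rho] at hr
  rw [PresentedGroup.toGroup.of] at hr
  have hm : hnMat 0 * hnMat 0 = 1 := by
    have := congrArg Units.val hr
    rwa [Units.val_pow_eq_pow_val, pow_two] at this
  have hinv : hnMat 0 * hnMat 1 = 1 := mat_pair (by decide)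
  have heq : hnMat 1 = hnMat 0 := by
    calc hnMat 1 = hnMat 0 * hnMat 0 * hnMat 1 := by rw [hm, one_mul]
      _ = hnMat 0 := by rw [mul_assoc, hinv, mul_one]
  have h' := congrFun (congrFun heq ⟨77, by norm_num⟩) ⟨105, by norm_num⟩
  simp only [hnMat, mat, RingHom.mapMatrix_apply, Matrix.map_apply] at h'
  change ((coeff ((rowsOf HNMat.gens 1).get 77) 105 : ℕ) : ZMod 11) =
    ((coeff ((rowsOf HNMat.gens 0).get 77) 105 : ℕ) : ZMod 11) at h'
  rw [show coeff ((rowsOf HNMat.gens 1).get 77) 105 = 10 by decide +kernel,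
    show coeff ((rowsOf HNMat.gens 0).get 77) 105 = 1 by decide +kernel] at h'
  exact absurd h' (by decide)

end CfsgLib.Presented.HNxyz
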