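import Mathlib.GroupTheory.Sylow
import Mathlib.GroupTheory.Abelianization.Defs
import Mathlib.GroupTheory.SpecificGroups.Cyclic
import Mathlib.GroupTheory.PGroup
import Mathlib.GroupTheory.IndexNormal

/-!
A perfect group with at most six elements is trivial.
-/
set_option autoImplicit false

namespace CfsgLib.Presented.HNxyz

/-- An abelian perfect group is trivial. -/
theorem subsingleton_of_comm {Q : Type*} [Group Q] (hperf : commutator Q = ⊤) (hc : ∀ a b : Q, a * b = b * a) :
    Subsingleton Q := by
  have : commutator Q = ⊥ := by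
    rw [commutator_def, Subgroup.commutator_eq_bot_iff_le_centralizer]
    intro a _ b _
    exact hc b a
  rw [hperf] at this
  exact Subgroup.subsingleton_iff.1 (subsingleton_iff_bot_eq_top.1 this.symm)

/-- A perfect group of order at most six is trivial. -/
theorem subsingleton_of_perfect {Q : Type*} [Group Q] [Finite Q] (hperf : commutator Q = ⊤)
    (h : Nat.card Q ≤ 6) : Subsingleton Q := by
  have hpos : 0 < Nat.card Q := Nat.card_pos
  have hprime : ∀ p : ℕ, p.Prime → Nat.card Q = p → Subsingleton Q := by
    intro p hp hq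
    haveI := Fact.mk hp
    haveI := isCyclic_of_prime_card hq
    exact subsingleton_of_comm hperf fun a b => by
      obtain ⟨g, hg⟩ := IsCyclic.exists_generator (α := Q)
      obtain ⟨i, rfl⟩ := hg a
      obtain ⟨j, rfl⟩ := hg b
      show g ^ i * g ^ j = g ^ j * g ^ i
      rw [← zpow_add, ← zpow_add, add_comm]
  obtain hc | hc | hc | hc | hc | hc : Nat.card Q = 1 ∨ Nat.card Q = 2 ∨ Nat.card Q = 3 ∨ Nat.card Q = 4 ∨
      Nat.card Q = 5 ∨ Nat.card Q = 6 := by omega
  · exact (Nat.card_eq_one_iff_unique.1 hc).1
  · exact hprime 2 Nat.prime_two hc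
  · exact hprime 3 Nat.prime_three hc
  · haveI := Fact.mk Nat.prime_two
    exact subsingleton_of_comm hperf (IsPGroup.commutative_of_card_eq_prime_sq (p := 2) (by rw [hc]; rfl))
  · exact hprime 5 Nat.prime_five hc
  · exfalso
    haveI := Fact.mk Nat.prime_three
    obtain ⟨g, hg⟩ := exists_prime_orderOf_dvd_card' 3 (show 3 ∣ Nat.card Q by rw [hc]; norm_num)
    have hidx : (Subgroup.zpowers g).index = 2 := by
      have := Subgroup.card_mul_index (Subgroup.zpowers g)
      rw [Nat.card_zpowers, hg, hc] at this
      omega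
    haveI := Subgroup.normal_of_index_eq_two hidx
    have hle : commutator Q ≤ Subgroup.zpowers g := by
      haveI := Fact.mk Nat.prime_two
      haveI : IsCyclic (Q ⧸ Subgroup.zpowers g) := isCyclic_of_prime_card (p := 2) hidx
      rw [commutator_def, Subgroup.commutator_le]
      intro a _ b _
      rw [← QuotientGroup.eq_one_iff]
      obtain ⟨q, hq⟩ := IsCyclic.exists_generator (α := Q ⧸ Subgroup.zpowers g)
      obtain ⟨i, hi⟩ := hq (a : Q ⧸ Subgroup.zpowers g)
      obtain ⟨j, hj⟩ := hq (b : Q ⧸ Subgroup.zpowers g)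
      have hi' : q ^ i = (a : Q ⧸ Subgroup.zpowers g) := hi
      have hj' : q ^ j = (b : Q ⧸ Subgroup.zpowers g) := hj
      rw [← QuotientGroup.mk'_apply, map_commutatorElement, QuotientGroup.mk'_apply, QuotientGroup.mk'_apply,
        commutatorElement_eq_one_iff_mul_comm, ← hi', ← hj', ← zpow_add, ← zpow_add, add_comm]
    rw [hperf, top_le_iff] at hle
    rw [hle, Subgroup.index_top] at hidx
    norm_num at hidx

end CfsgLib.Presented.HNxyz
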