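import Cfsg.Agent.Lib.Presented.HNxyz.Action
import Cfsg.Agent.Lib.Presented.HNxyz.Rep
import Cfsg.Agent.Lib.Presented.HNxyz.Small
import Cfsg.Agent.Lib.Schur.MultiplierHS
import Cfsg.Prelude.Def_SporadicB

/-!
The group on x, y, z has an index two subgroup which is a non-split double cover of the Higman-Sims group,
and it maps injectively into the presented Harada-Norton group.
-/
set_option autoImplicit false
set_option maxRecDepth 8000

namespace CfsgLib.Presented.HNxyz

open HNPerm (rep stabWords)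
open scoped commutatorElement

/-- the parity of the generators -/
def par3 : Gen3 → ℤˣ
  | .z => -1
  | _ => 1

theorem par3_kills : ∀ r ∈ Cfsg.Spor.coxRelators ([] : List (Gen3 × ℕ × Gen3)) ∪ {r | r ∈ extra3},
    FreeGroup.lift par3 r = 1 := by
  refine Letters.kills letters_valid nodes_valid full (fun g hg => absurd hg (List.not_mem_nil))
    (fun w hw => absurd (show w ∈ ([] : List (List ℕ)) from hw) (List.not_mem_nil)) ?_
  decide +kernel

/-- the parity -/
noncomputable def pi0 : T →* ℤˣ := PresentedGroup.toGroup par3_kills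

theorem pi0_of (g : Gen3) : pi0 (PresentedGroup.of g) = par3 g := PresentedGroup.toGroup.of par3_kills

/-- the even subgroup -/
noncomputable abbrev K : Subgroup T := pi0.ker

theorem gx_mem : gx ∈ K := by rw [MonoidHom.mem_ker, pi0_of]; rfl

theorem gy_mem : gy ∈ K := by rw [MonoidHom.mem_ker, pi0_of]; rfl

theorem gz_not_mem : gz ∉ K := by rw [MonoidHom.mem_ker, pi0_of]; decide

theorem index_K : K.index = 2 := by
  rw [Subgroup.index_ker, MonoidHom.range_eq_top.2 (fun u => by
    rcases Int.units_eq_one_or u with rfl | rfl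
    · exact ⟨1, map_one _⟩
    · exact ⟨gz, by rw [pi0_of]; rfl⟩), Subgroup.card_top, Nat.card_eq_fintype_card]
  rfl

theorem finite_T : Finite T := Nat.finite_of_card_ne_zero card_T_le.1

theorem gens_mem_derived : gx ∈ ⁅K, K⁆ ∧ gy ∈ ⁅K, K⁆ := by
  set π := QuotientGroup.mk' ⁅K, K⁆ with hπ
  have hc : Commute (π gx) (π gy) := by
    have h1 : π ⁅gx, gy⁆ = 1 := by
      rw [hπ, QuotientGroup.mk'_apply, QuotientGroup.eq_one_iff]
      exact Subgroup.commutator_mem_commutator gx_mem gy_mem
    rw [map_commutatorElement, commutatorElement_eq_one_iff_mul_comm] at h1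
    exact h1
  set X := π gx with hX
  set Y := π gy with hY
  set Z := π gz with hZ
  have r0 : Y ^ 6 = 1 := by rw [hY, ← map_pow, rel0, map_one]
  have r3 : (X⁻¹ * Y ^ 2 * X * Y ^ 3) ^ 3 = 1 := by
    simpa [hX, hY] using congrArg π rel3
  have r4 : (X * Y) ^ 8 = 1 := by simpa [hX, hY] using congrArg π rel4
  have r7 : (Z * X) ^ 2 = 1 := by simpa [hX, hZ] using congrArg π rel7
  have r9 : Z * (((Y ^ 3 * X * Y * X * Y)⁻¹ * Z * (Y ^ 3 * X * Y * X * Y)) * X) ^ 3 = 1 := by
    simpa [hX, hY, hZ] using congrArg π rel9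
  have z2 : Z * Z = 1 := by rw [hZ, ← map_mul, ← pow_two, rel6, map_one]
  have x4 : X ^ 4 = 1 := by rw [hX, ← map_pow, x_four, map_one]
  have e5 : X⁻¹ * Y ^ 2 * X * Y ^ 3 = Y ^ 5 := by
    rw [mul_assoc X⁻¹, (hc.symm.pow_left 2).eq, ← mul_assoc, inv_mul_cancel, one_mul, ← pow_add]
  rw [e5, ← pow_mul] at r3
  rw [hc.mul_pow, show (8 : ℕ) = 4 * 2 from rfl, pow_mul X, x4, one_pow, one_mul] at r4
  have y3 : Y ^ 3 = 1 := by
    have : Y ^ (5 * 3) = (Y ^ 6) ^ 2 * Y ^ 3 :=
      (congrArg (Y ^ ·) (by norm_num : 5 * 3 = 6 * 2 + 3)).trans (by rw [pow_add, pow_mul])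
    rw [this, r0, one_pow, one_mul] at r3
    exact r3
  have y1 : Y = 1 := by
    have e : Y ^ (4 * 2) * Y = (Y ^ 3) ^ 3 :=
      ((pow_succ Y (4 * 2)).symm.trans (congrArg (Y ^ ·) (by norm_num : 4 * 2 + 1 = 3 * 3))).trans (pow_mul Y 3 3)
    rwa [r4, one_mul, y3, one_pow] at e
  simp only [y1, one_pow, mul_one, one_mul] at r9
  have zx : (X * X)⁻¹ * Z * (X * X) * X = Z * X := by
    have hzxz : Z * X * Z = X⁻¹ := by
      rw [pow_two] at r7
      have e : Z * X * Z = Z * X * (Z * X) * X⁻¹ := by group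
      rw [e, r7, one_mul]
    have zi : Z⁻¹ = Z := inv_eq_of_mul_eq_one_right z2
    have hx2 : Z * (X * X) = (X * X)⁻¹ * Z := by
      calc Z * (X * X) = (Z * X * Z⁻¹) * (Z * X * Z⁻¹) * Z := by group
        _ = (X * X)⁻¹ * Z := by rw [zi, hzxz, mul_inv_rev]
    have xx4 : X * X * (X * X) = 1 := by rw [← mul_assoc, ← pow_three', ← pow_succ]; exact x4
    have hi2 : (X * X)⁻¹ = X * X := inv_eq_of_mul_eq_one_right xx4
    rw [hi2, mul_assoc (X * X), hx2, hi2, ← mul_assoc, xx4,
      one_mul]
  rw [zx] at r9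
  have hx1 : X = 1 := by
    rw [pow_succ, r7, one_mul, ← mul_assoc, z2, one_mul] at r9
    exact r9
  exact ⟨(QuotientGroup.eq_one_iff _).1 hx1, (QuotientGroup.eq_one_iff _).1 y1⟩

theorem K_le_derived : K ≤ ⁅K, K⁆ := by
  intro k hk
  have hle : (⊤ : Subgroup T) ≤ (Subgroup.zpowers (QuotientGroup.mk' ⁅K, K⁆ gz)).comap (QuotientGroup.mk' ⁅K, K⁆) := by
    rw [← closure_gens, Subgroup.closure_le]
    rintro g (rfl | rfl | rfl)
    · refine Subgroup.mem_comap.2 ?_
      simp only [QuotientGroup.mk'_apply]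
      rw [(QuotientGroup.eq_one_iff _).2 gens_mem_derived.1]; exact one_mem _
    · refine Subgroup.mem_comap.2 ?_
      simp only [QuotientGroup.mk'_apply]
      rw [(QuotientGroup.eq_one_iff _).2 gens_mem_derived.2]; exact one_mem _
    · exact Subgroup.mem_comap.2 (Subgroup.mem_zpowers _)
  obtain ⟨i, hi⟩ := Subgroup.mem_zpowers_iff.1 (Subgroup.mem_comap.1 (hle (Subgroup.mem_top k)))
  rw [QuotientGroup.mk'_apply, QuotientGroup.mk'_apply] at hi
  have z2 : (gz : T ⧸ ⁅K, K⁆) ^ (2 : ℤ) = 1 := by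
    rw [zpow_two, ← QuotientGroup.mk_mul, ← pow_two, rel6, QuotientGroup.mk_one]
  obtain ⟨m, rfl | rfl⟩ := Int.even_or_odd' i
  · rw [zpow_mul, z2, one_zpow] at hi
    exact (QuotientGroup.eq_one_iff _).1 hi.symm
  · exfalso
    rw [zpow_add, zpow_mul, z2, one_zpow, one_mul, zpow_one] at hi
    have hle' : ⁅K, K⁆ ≤ K := Subgroup.commutator_le_left _ _
    exact gz_not_mem (by simpa using K.mul_mem hk (K.inv_mem (hle' (QuotientGroup.eq.1 hi))))

theorem K_perfect : commutator K = ⊤ := by
  apply Subgroup.map_injective K.subtype_injective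
  rw [Subgroup.map_subtype_commutator, ← MonoidHom.range_eq_map, Subgroup.range_subtype]
  exact le_antisymm (Subgroup.commutator_le_left _ _) K_le_derived

/-- the sign of the action -/
theorem sign_eq : (Equiv.Perm.sign.comp phi : T →* ℤˣ) = pi0 := by
  have hker : ⁅K, K⁆ ≤ (Equiv.Perm.sign.comp phi : T →* ℤˣ).ker := by
    refine (Subgroup.commutator_le).2 fun a _ b _ => ?_
    rw [MonoidHom.mem_ker, map_commutatorElement]
    exact commutatorElement_eq_one_iff_mul_comm.2 (mul_comm _ _)
  refine PresentedGroup.ext fun g => ?_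
  rw [pi0_of]
  cases g
  · exact MonoidHom.mem_ker.1 (hker gens_mem_derived.1)
  · exact MonoidHom.mem_ker.1 (hker gens_mem_derived.2)
  · exact sign_gz

theorem ker_le_K : phi.ker ≤ K := by
  intro g hg
  rw [MonoidHom.mem_ker, ← sign_eq, MonoidHom.comp_apply, MonoidHom.mem_ker.1 hg, map_one]

/-- the even permutations in the image -/
noncomputable abbrev P : Subgroup (Equiv.Perm (Fin rep.N)) := K.map phi

/-- the even subgroup onto the even image -/
noncomputable abbrev sig : K →* P := phi.subgroupMap K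

theorem sig_surj : Function.Surjective sig := phi.subgroupMap_surjective K

theorem sig_ker : sig.ker = phi.ker.subgroupOf K := by
  ext a
  simp [Subgroup.mem_subgroupOf, MonoidHom.mem_ker, Subtype.ext_iff]

theorem card_ker_eq : Nat.card sig.ker = Nat.card phi.ker := by
  rw [sig_ker]
  exact Nat.card_congr (Subgroup.subgroupOfEquivOfLe ker_le_K).toEquiv

theorem card_T_eq : Nat.card T = 88704000 * Nat.card phi.ker := by
  rw [← Subgroup.card_mul_index phi.ker, Subgroup.index_ker, card_range, mul_comm]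

theorem card_K_eq : Nat.card K = Nat.card P * Nat.card phi.ker := by
  rw [← Subgroup.card_mul_index sig.ker, Subgroup.index_ker, MonoidHom.range_eq_top.2 sig_surj,
    Subgroup.card_top, card_ker_eq, mul_comm]

theorem ker_le_six : Nat.card phi.ker ≤ 6 := by
  have h := card_T_le.2
  rw [card_T_eq] at h
  omega

theorem card_P : Nat.card P = 44352000 := by
  haveI := finite_T
  have h := Subgroup.card_mul_index K
  rw [index_K, card_T_eq, card_K_eq] at h
  have hpos : 0 < Nat.card phi.ker := Nat.card_pos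
  have : Nat.card P * 2 * Nat.card phi.ker = 88704000 * Nat.card phi.ker := by rw [← h]; ring
  have := Nat.eq_of_mul_eq_mul_right hpos this
  omega

theorem P_le : P ≤ phi.range := fun y hy => by obtain ⟨s, -, rfl⟩ := hy; exact ⟨s, rfl⟩

theorem S_le : S.map phi ≤ P := by
  refine Subgroup.map_mono ?_
  rw [S, Subgroup.closure_le]
  rintro _ ⟨w, hw, rfl⟩
  simp only [SetLike.mem_coe, MonoidHom.mem_ker, evW, map_list_prod, List.map_map]
  have hpar : ∀ w ∈ stabWords, (w.map fun l => if l = 4 ∨ l = 5 then (-1 : ℤˣ) else 1).prod = 1 := by decide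
  rw [← hpar w hw]
  refine congrArg List.prod (List.map_congr_left fun l hl => ?_)
  have hl6 := stabWords_lt w hw l hl
  obtain ⟨h0, h1, h2, h3, h4, h5⟩ := ev_vals
  rw [Function.comp_apply]
  interval_cases l <;> simp [h0, h1, h2, h3, h4, h5, pi0_of, par3]

theorem P_pretransitive : MulAction.IsPretransitive P (Fin rep.N) :=
  pretransitive (Subgroup.mem_map_of_mem _ gx_mem) (Subgroup.mem_map_of_mem _ gy_mem)

theorem exists_iso : Nonempty (P ≃* Cfsg.Spor.HS) := by
  haveI := P_pretransitive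
  obtain ⟨h22, h77⟩ := orbits P_le S_le
  refine Steiner.RankThreeHS.isoHS_of_rank_three (G := P)
    (show Fintype.card (Fin rep.N) = 100 from Fintype.card_fin _) (pt 0 (by norm_num)) _ _ h22 h77 ?_
  have h := Subgroup.card_mul_index (MulAction.stabilizer P (pt 0 (by norm_num)))
  have hN : Nat.card (Fin rep.N) = 100 := Nat.card_eq_fintype_card.trans (Fintype.card_fin _)
  rw [MulAction.index_stabilizer_of_transitive, hN, card_P] at h
  omega

theorem P_simple : IsSimpleGroup P := by
  haveI := Schur.MultiplierHS.isSimpleGroup_HS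
  exact exists_iso.some.isSimpleGroup

theorem sig_central : sig.ker ≤ Subgroup.center K := by
  haveI := finite_T
  haveI := P_simple
  let c : K →* MulAut sig.ker := MulAut.conjNormal
  have hcard : Nat.card sig.ker ≤ 6 := card_ker_eq ▸ ker_le_six
  have hM : c.ker = ⊤ := by
    rcases IsSimpleGroup.eq_bot_or_eq_top_of_normal (c.ker.map sig)
        (Subgroup.Normal.map inferInstance _ sig_surj) with h | h
    · exfalso
      rw [Subgroup.map_eq_bot_iff] at h
      have h1 := Subgroup.card_mul_index c.ker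
      have h2 : Nat.card c.ker ≤ 6 := (Subgroup.card_le_of_le h).trans hcard
      have h3 : c.ker.index ≤ 6 ^ 6 := by
        rw [Subgroup.index_ker]
        refine (Nat.card_le_card_of_injective (fun a : c.range => (⇑(a.1) : sig.ker → sig.ker))
          (fun a b hab => Subtype.ext (MulEquiv.ext fun v => congrFun hab v))).trans ?_
        rw [Nat.card_fun]
        exact (Nat.pow_le_pow_left hcard _).trans (Nat.pow_le_pow_right (by norm_num) hcard)
      have h4 : 44352000 ≤ Nat.card K := by
        rw [card_K_eq, card_P]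
        exact Nat.le_mul_of_pos_right _ Nat.card_pos
      have := Nat.mul_le_mul h2 h3
      omega
    · have hsup : ∀ k : K, ∃ m ∈ c.ker, ∃ a ∈ sig.ker, k = m * a := by
        intro k
        obtain ⟨m, hm, he⟩ : sig k ∈ c.ker.map sig := h ▸ Subgroup.mem_top _
        exact ⟨m, hm, m⁻¹ * k, by rw [MonoidHom.mem_ker, map_mul, map_inv, he, inv_mul_cancel],
          (mul_inv_cancel_left m k).symm⟩
      have hsurj : Function.Surjective (fun a : sig.ker => ((a : K) : K ⧸ c.ker)) := by
        intro q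
        induction q using QuotientGroup.induction_on with
        | _ k =>
          obtain ⟨m, hm, a, ha, rfl⟩ := hsup k
          exact ⟨⟨a, ha⟩, by
            show (a : K ⧸ c.ker) = ((m * a : K) : K ⧸ c.ker)
            rw [QuotientGroup.mk_mul, (QuotientGroup.eq_one_iff m).2 hm, one_mul]⟩
      have hperf : commutator (K ⧸ c.ker) = ⊤ := by
        have := congrArg (Subgroup.map (QuotientGroup.mk' c.ker)) K_perfect
        rwa [commutator_def, Subgroup.map_commutator, ← MonoidHom.range_eq_map,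
          MonoidHom.range_eq_top.2 (QuotientGroup.mk'_surjective _), ← commutator_def] at this
      haveI := subsingleton_of_perfect hperf ((Nat.card_le_card_of_surjective _ hsurj).trans hcard)
      exact Subgroup.eq_top_iff' _ |>.2 fun k => (QuotientGroup.eq_one_iff k).1 (Subsingleton.elim _ _)
  intro a ha
  rw [Subgroup.mem_center_iff]
  intro k
  have hk : k ∈ c.ker := hM ▸ Subgroup.mem_top k
  have e := congrArg (fun f : MulAut sig.ker => ((f ⟨a, ha⟩ : sig.ker) : K)) (MonoidHom.mem_ker.1 hk)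
  have e' : k * a * k⁻¹ = a := e
  exact mul_inv_eq_iff_eq_mul.1 e'

theorem sq_mem_K : gx ^ 2 ∈ K := K.pow_mem gx_mem 2

theorem sq_ne : (gx ^ 2 : T) ≠ 1 := fun h => psi_sq_ne (by rw [h, map_one])

theorem card_sig_ker : Nat.card sig.ker = 2 := by
  haveI := finite_T
  obtain ⟨e⟩ := exists_iso
  have hker : (e.toMonoidHom.comp sig).ker = sig.ker := by
    ext a
    simp [MonoidHom.mem_ker]
  have hstem : Cfsg.IsStemExtension (e.toMonoidHom.comp sig) := by
    refine ⟨e.surjective.comp sig_surj, ?_, ?_⟩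
    · rw [hker]; exact sig_central
    · rw [K_perfect]; exact le_top
  obtain ⟨p, hp⟩ := Schur.MultiplierHS.multiplier.2 K (e.toMonoidHom.comp sig) hstem
  refine le_antisymm ?_ ?_
  · have := Nat.card_le_card_of_surjective p hp
    rw [hker] at this
    exact this.trans_eq (by rw [Nat.card_congr Multiplicative.toAdd, Nat.card_zmod])
  · have hmem : (⟨gx ^ 2, sq_mem_K⟩ : K) ∈ sig.ker := by
      rw [sig_ker]; exact MonoidHom.mem_ker.2 phi_sq
    refine Nat.succ_le_of_lt (Finite.one_lt_card_iff_nontrivial.2 ⟨⟨_, hmem⟩, 1, fun h => sq_ne ?_⟩)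
    simpa [Subtype.ext_iff] using h

theorem mem_ker_cases {a : T} (ha : a ∈ phi.ker) : a = 1 ∨ a = gx ^ 2 := by
  classical
  haveI := finite_T
  by_contra hne
  rw [not_or] at hne
  have h2 : Nat.card phi.ker = 2 := card_ker_eq ▸ card_sig_ker
  letI := Fintype.ofFinite phi.ker
  rw [Nat.card_eq_fintype_card] at h2
  have h3 : ({1, ⟨gx ^ 2, MonoidHom.mem_ker.2 phi_sq⟩, ⟨a, ha⟩} : Finset phi.ker).card = 3 := by
    rw [Finset.card_insert_of_notMem, Finset.card_insert_of_notMem, Finset.card_singleton]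
    · simp only [Finset.mem_singleton, Subtype.ext_iff]
      exact fun h => hne.2 h.symm
    · simp only [Finset.mem_insert, Finset.mem_singleton, Subtype.ext_iff, not_or]
      exact ⟨fun h => sq_ne h.symm, fun h => hne.1 h.symm⟩
  have h4 : ({1, ⟨gx ^ 2, MonoidHom.mem_ker.2 phi_sq⟩, ⟨a, ha⟩} : Finset phi.ker).card ≤ Fintype.card phi.ker :=
    Finset.card_le_univ _
  rw [h3, h2] at h4
  omega

theorem center_P : Subgroup.center P = ⊥ := by
  haveI := P_simple
  rcases IsSimpleGroup.eq_bot_or_eq_top_of_normal (Subgroup.center P) inferInstance with h | h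
  · exact h
  · exfalso
    have hperf : commutator P = ⊤ := by
      have := congrArg (Subgroup.map sig) K_perfect
      rwa [commutator_def, Subgroup.map_commutator, ← MonoidHom.range_eq_map,
        MonoidHom.range_eq_top.2 sig_surj, ← commutator_def] at this
    haveI := subsingleton_of_comm hperf fun a b => (Subgroup.mem_center_iff.1 (h ▸ Subgroup.mem_top b : b ∈ Subgroup.center P) a)
    have h1 : Nat.card P = 1 := Nat.card_of_subsingleton (1 : P)
    rw [card_P] at h1
    norm_num at h1

theorem center_K : Subgroup.center K = sig.ker := by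
  refine le_antisymm ?_ sig_central
  intro a ha
  have : sig a ∈ Subgroup.center P := by
    rw [Subgroup.mem_center_iff]
    intro b
    obtain ⟨k, rfl⟩ := sig_surj b
    rw [← map_mul, ← map_mul, Subgroup.mem_center_iff.1 ha k]
  rw [center_P, Subgroup.mem_bot] at this
  exact this

theorem double_cover : Cfsg.IsNonsplitDoubleCover K Cfsg.Spor.HS := by
  haveI := finite_T
  obtain ⟨e⟩ := exists_iso
  refine ⟨by rw [center_K, card_sig_ker], ⟨((QuotientGroup.quotientMulEquivOfEq center_K).trans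
    (QuotientGroup.quotientKerEquivOfSurjective sig sig_surj)).trans e⟩, fun L hL => ?_⟩
  have hgen : ∀ k : K, ∃ c ∈ Subgroup.center K, ∃ l ∈ L, k = c * l := fun k => by
    obtain ⟨⟨⟨c, hc⟩, ⟨l, hl⟩⟩, hp, -⟩ := Subgroup.isComplement_iff_existsUnique.1 hL k
    exact ⟨c, hc, l, hl, hp.symm⟩
  have hL' : L = ⊤ := by
    rw [eq_top_iff, ← K_perfect, commutator_def, Subgroup.commutator_le]
    intro a _ b _
    obtain ⟨c, hc, l, hl, rfl⟩ := hgen a
    obtain ⟨d, hd, m, hm, rfl⟩ := hgen b
    have e1 := fun g => Subgroup.mem_center_iff.1 hc g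
    have e2 := fun g => Subgroup.mem_center_iff.1 hd g
    have : ⁅c * l, d * m⁆ = ⁅l, m⁆ := by
      calc c * l * (d * m) * (c * l)⁻¹ * (d * m)⁻¹ = c * (l * d) * m * (l⁻¹ * c⁻¹) * (m⁻¹ * d⁻¹) := by group
        _ = c * (d * l) * m * (l⁻¹ * c⁻¹) * (m⁻¹ * d⁻¹) := by rw [e2 l]
        _ = (c * d) * (l * m * l⁻¹) * c⁻¹ * (m⁻¹ * d⁻¹) := by group
        _ = (d * c) * (l * m * l⁻¹) * c⁻¹ * (m⁻¹ * d⁻¹) := by rw [e2 c]
        _ = d * ((c * (l * m * l⁻¹)) * c⁻¹) * (m⁻¹ * d⁻¹) := by group
        _ = d * (((l * m * l⁻¹) * c) * c⁻¹) * (m⁻¹ * d⁻¹) := by rw [← e1 (l * m * l⁻¹)]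
        _ = d * (l * m * l⁻¹ * m⁻¹) * d⁻¹ := by group
        _ = (l * m * l⁻¹ * m⁻¹) * d * d⁻¹ := by rw [← e2 (l * m * l⁻¹ * m⁻¹)]
        _ = ⁅l, m⁆ := by rw [mul_inv_cancel_right]; rfl
    rw [this]
    exact L.mul_mem (L.mul_mem (L.mul_mem hl hm) (L.inv_mem hl)) (L.inv_mem hm)
  obtain ⟨c, hc, hc1⟩ : ∃ c ∈ Subgroup.center K, c ≠ 1 := by
    by_contra h
    push Not at h
    have : Subgroup.center K = ⊥ := eq_bot_iff.2 fun a ha => Subgroup.mem_bot.2 (h a ha)
    have h2 : Nat.card (Subgroup.center K) = 2 := by rw [center_K, card_sig_ker]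
    rw [this, Subgroup.card_bot] at h2
    norm_num at h2
  exact hc1 (Subgroup.mem_bot.1 (hL.disjoint.le_bot ⟨hc, hL' ▸ Subgroup.mem_top c⟩))

theorem psi_injective : Function.Injective psi := by
  haveI := finite_T
  haveI := P_simple
  haveI := P_pretransitive
  rw [injective_iff_map_eq_one]
  have hK : ∀ k ∈ K, psi k = 1 → k = 1 := by
    intro k hk hpk
    haveI : ((psi.ker.subgroupOf K).map sig).Normal := Subgroup.Normal.map inferInstance _ sig_surj
    rcases IsSimpleGroup.eq_bot_or_eq_top_of_normal ((psi.ker.subgroupOf K).map sig) inferInstance with h | h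
    · have : sig ⟨k, hk⟩ ∈ (psi.ker.subgroupOf K).map sig := Subgroup.mem_map_of_mem _ hpk
      rw [h, Subgroup.mem_bot] at this
      have hk0 : (⟨k, hk⟩ : K) ∈ sig.ker := this
      rw [sig_ker] at hk0
      rcases mem_ker_cases hk0 with rfl | rfl
      · rfl
      · exact absurd hpk psi_sq_ne
    · exfalso
      obtain ⟨a, ha, he⟩ : sig ⟨gx, gx_mem⟩ ∈ (psi.ker.subgroupOf K).map sig := h ▸ Subgroup.mem_top _
      have hd : a⁻¹ * (⟨gx, gx_mem⟩ : K) ∈ sig.ker := by
        rw [MonoidHom.mem_ker, map_mul, map_inv, he, inv_mul_cancel]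
      rw [sig_ker] at hd
      have ha' : psi (a : T) = 1 := ha
      rcases mem_ker_cases hd with e | e
      · have e' := congrArg psi e
        change psi ((a : T)⁻¹ * gx) = _ at e'
        rw [map_mul, map_inv, ha', inv_one, one_mul, map_one] at e'
        exact psi_sq_ne (by rw [map_pow, e', one_pow])
      · have e' := congrArg psi e
        change psi ((a : T)⁻¹ * gx) = _ at e'
        rw [map_mul, map_inv, ha', inv_one, one_mul, map_pow, pow_two] at e'
        exact psi_sq_ne (by rw [map_pow, mul_eq_left.1 e'.symm, one_pow])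
  intro g hg
  by_cases hgK : g ∈ K
  · exact hK g hgK hg
  exfalso
  have hcomm : ∀ a ∈ K, g * a = a * g := by
    intro a ha
    have h1 : ⁅g, a⁆ ∈ K := by
      rw [commutatorElement_def]
      exact K.mul_mem ((MonoidHom.normal_ker pi0).conj_mem a ha g) (K.inv_mem ha)
    have h2 : psi ⁅g, a⁆ = 1 := by rw [map_commutatorElement, hg, commutatorElement_one_left]
    exact commutatorElement_eq_one_iff_mul_comm.1 (hK _ h1 h2)
  have hfix : ∀ s : MulAction.stabilizer P (pt 0 (by norm_num)),
      s • (phi g (pt 0 (by norm_num))) = phi g (pt 0 (by norm_num)) := by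
    rintro ⟨⟨s, a, ha, rfl⟩, hs⟩
    show phi a (phi g _) = _
    have hs' : phi a (pt 0 (by norm_num)) = pt 0 (by norm_num) := hs
    rw [← Equiv.Perm.mul_apply, ← map_mul, ← hcomm a ha, map_mul, Equiv.Perm.mul_apply, hs']
  have h0 : phi g (pt 0 (by norm_num)) = pt 0 (by norm_num) := by
    by_contra hne
    obtain ⟨h22, h77⟩ := orbits P_le S_le
    have hcases : ∀ j : Fin rep.N, j = pt 0 (by norm_num) ∨ HNPerm.orb_a.testBit (j : ℕ) = true ∨
        HNPerm.orb_b.testBit (j : ℕ) = true := by decide +kernel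
    have hone : (MulAction.orbit (MulAction.stabilizer P (pt 0 (by norm_num)))
        (phi g (pt 0 (by norm_num)))).ncard = 1 := by
      rw [Set.ncard_eq_one]
      refine ⟨phi g (pt 0 (by norm_num)), Set.eq_singleton_iff_unique_mem.2 ⟨MulAction.mem_orbit_self _, ?_⟩⟩
      rintro _ ⟨s, rfl⟩
      exact hfix s
    have hin : ∀ i (hi : i < 100) r O, orbitOK rep stabWords i r O = true → O.testBit (phi g (pt 0 (by norm_num)) : ℕ) = true →
        (MulAction.orbit (MulAction.stabilizer P (pt 0 (by norm_num))) (pt i hi)).ncard = 1 := by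
      intro i hi r O hok hO
      obtain ⟨h, hh, he⟩ := (orbit_eq_of_ok rep_valid hok phi phi_ev (H := S) rfl hi _).2 hO
      have hfixS : phi h (pt 0 (by norm_num)) = pt 0 (by norm_num) := by
        clear he
        induction hh using Subgroup.closure_induction with
        | mem y hy => obtain ⟨w, hw, rfl⟩ := hy; exact stabWords_fix w hw
        | one => simp
        | mul a b _ _ iha ihb => rw [map_mul, Equiv.Perm.mul_apply, ihb, iha]
        | inv a _ ih => rw [map_inv]; exact (Equiv.symm_apply_eq _).2 ih.symm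
      have hmem : phi g (pt 0 (by norm_num)) ∈ MulAction.orbit (MulAction.stabilizer P (pt 0 (by norm_num))) (pt i hi) :=
        ⟨⟨⟨phi h, S_le (Subgroup.mem_map_of_mem _ hh)⟩, hfixS⟩, he⟩
      rw [← MulAction.orbit_eq_iff.2 hmem, hone]
    rcases hcases (phi g (pt 0 (by norm_num))) with h | h | h
    · exact hne h
    · exact absurd (h22.symm.trans (hin _ (by decide) _ _ (by decide +kernel : orbitOK rep stabWords HNPerm.pt_a
        HNPerm.rounds_a HNPerm.orb_a = true) h)) (by norm_num)
    · exact absurd (h77.symm.trans (hin _ (by decide) _ _ (by decide +kernel : orbitOK rep stabWords HNPerm.pt_b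
        HNPerm.rounds_b HNPerm.orb_b = true) h)) (by norm_num)
  have hall : phi g = 1 := by
    apply Equiv.ext
    intro j
    obtain ⟨⟨s, a, ha, rfl⟩, rfl⟩ := MulAction.exists_smul_eq P (pt 0 (by norm_num)) j
    show phi g (phi a _) = phi a _
    rw [← Equiv.Perm.mul_apply, ← map_mul, hcomm a ha, map_mul, Equiv.Perm.mul_apply, h0]
  exact hgK (ker_le_K hall)

theorem range_psi : psi.range = (Subgroup.closure ({Cfsg.Spor.HN.x, Cfsg.Spor.HN.y, Cfsg.Spor.HN.z} :
    Set (FreeGroup Cfsg.Spor.HN.Gen))).map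
      (PresentedGroup.mk (Cfsg.Spor.coxRelators Cfsg.Spor.HN.edges ∪ {r | r ∈ Cfsg.Spor.HN.extra})) := by
  rw [MonoidHom.range_eq_map, ← closure_gens, MonoidHom.map_closure, MonoidHom.map_closure]
  congr 1
  simp only [Set.image_insert_eq, Set.image_singleton, psi_of]
  rfl

end CfsgLib.Presented.HNxyz
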