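import Cfsg.Prelude.Def_Spor_HN
import Cfsg.Agent.Lib.Presented.Order
import Cfsg.Agent.Lib.Presented.Cert.HNQP
import Cfsg.Agent.Lib.Presented.Cert.HNU
import Cfsg.Agent.Lib.Presented.Cert.HNT
import Mathlib.GroupTheory.NoncommCoprod

/-!
The group presented by the relators of the Harada-Norton presentation in x, y, z alone has order at most
six times 88704000 (chain of logged coset enumerations).
-/
set_option autoImplicit false
set_option maxRecDepth 8000

namespace CfsgLib.Presented.HNxyz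

/-- the three generators -/
inductive Gen3
  | x
  | y
  | z
  deriving DecidableEq

/-- the generators as generators of the presented group -/
def toHN : Gen3 → Cfsg.Spor.HN.Gen
  | .x => .x
  | .y => .y
  | .z => .z

/-- the relators not involving the fourth generator -/
def extra3 : List (FreeGroup Gen3) :=
  let x := FreeGroup.of Gen3.x
  let y := FreeGroup.of Gen3.y
  let z := FreeGroup.of Gen3.z
  [ y ^ 6,
    (x ^ 2) * y * (x ^ 2) * (y⁻¹),
    (x⁻¹ * y⁻¹ * x * y) ^ 3,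
    ((x⁻¹) * (y ^ 2) * x * (y ^ 3)) ^ 3,
    (x * y) ^ 8,
    (x * y * x * (y ^ 3)) ^ 4,
    z ^ 2,
    (z * x) ^ 2,
    (z⁻¹ * (y * x * y * x * (y ^ 2) * x * (y⁻¹))⁻¹ * z * (y * x * y * x * (y ^ 2) * x * (y⁻¹))) * ((x ^ 2)⁻¹),
    z * (((((y ^ 3) * x * y * x * y)⁻¹ * z * ((y ^ 3) * x * y * x * y)) * x) ^ 3) ]

/-- the group on the three generators -/
abbrev T : Type := Cfsg.Spor.CoxPresented Gen3 [] extra3

/-- numbering -/
def idxOf : Gen3 → ℕ
  | .x => 0
  | .y => 2
  | .z => 4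

/-- reading letters back -/
def genOf : ℕ → Gen3 × Bool
  | 0 => (.x, true)
  | 1 => (.x, false)
  | 2 => (.y, true)
  | 3 => (.y, false)
  | 4 => (.z, true)
  | _ => (.z, false)

/-- the letters -/
def letters : Letters Gen3 := ⟨HNT.alphabet, idxOf, genOf, []⟩

theorem letters_valid : letters.valid = true := by decide +kernel

theorem nodes_valid : letters.nodesValid ([] : List (Gen3 × ℕ × Gen3)) = true := by decide +kernel

theorem full : letters.Full := fun g => by cases g <;> decide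

theorem relWords_eq : HNT.relWords = letters.coxWords [] ++ letters.extraWords extra3 := by decide +kernel

/-- values of the letters -/
noncomputable abbrev ev : ℕ → T := letters.ev fun g => PresentedGroup.of g

theorem rels_hold : ∀ w ∈ HNT.relWords, evW ev w = 1 := by
  rw [relWords_eq]
  exact Letters.rels_hold letters_valid nodes_valid full

theorem ev_one : ev HNT.alphabet.eps = 1 := Letters.ev_eps (L := letters)

theorem ev_inv : ∀ x, x < HNT.alphabet.eps → ev (HNT.alphabet.invl x) * ev x = 1 :=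
  Letters.ev_inv letters_valid (Letters.of_sq nodes_valid)

/-- the generators -/
noncomputable abbrev gx : T := PresentedGroup.of Gen3.x
/-- the generators -/
noncomputable abbrev gy : T := PresentedGroup.of Gen3.y
/-- the generators -/
noncomputable abbrev gz : T := PresentedGroup.of Gen3.z

theorem ev_vals : ev 0 = gx ∧ ev 1 = gx⁻¹ ∧ ev 2 = gy ∧ ev 3 = gy⁻¹ ∧ ev 4 = gz ∧ ev 5 = gz⁻¹ :=
  ⟨rfl, rfl, rfl, rfl, rfl, rfl⟩

theorem rel0 : gy ^ 6 = 1 := by
  obtain ⟨h0, h1, h2, h3, h4, h5⟩ := ev_vals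
  have := rels_hold _ (List.getElem_mem (l := HNT.relWords) (n := 0) (by decide))
  simpa [HNT.relWords, evW, h0, h1, h2, h3, h4, h5, pow_succ, mul_assoc, mul_inv_rev] using this

theorem rel1 : gx ^ 2 * gy * gx ^ 2 * gy⁻¹ = 1 := by
  obtain ⟨h0, h1, h2, h3, h4, h5⟩ := ev_vals
  have := rels_hold _ (List.getElem_mem (l := HNT.relWords) (n := 1) (by decide))
  simpa [HNT.relWords, evW, h0, h1, h2, h3, h4, h5, pow_succ, mul_assoc, mul_inv_rev] using this

theorem rel3 : (gx⁻¹ * gy ^ 2 * gx * gy ^ 3) ^ 3 = 1 := by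
  obtain ⟨h0, h1, h2, h3, h4, h5⟩ := ev_vals
  have := rels_hold _ (List.getElem_mem (l := HNT.relWords) (n := 3) (by decide))
  simpa [HNT.relWords, evW, h0, h1, h2, h3, h4, h5, pow_succ, mul_assoc, mul_inv_rev] using this

theorem rel4 : (gx * gy) ^ 8 = 1 := by
  obtain ⟨h0, h1, h2, h3, h4, h5⟩ := ev_vals
  have := rels_hold _ (List.getElem_mem (l := HNT.relWords) (n := 4) (by decide))
  simpa [HNT.relWords, evW, h0, h1, h2, h3, h4, h5, pow_succ, mul_assoc, mul_inv_rev] using this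

theorem rel5 : (gx * gy * gx * gy ^ 3) ^ 4 = 1 := by
  obtain ⟨h0, h1, h2, h3, h4, h5⟩ := ev_vals
  have := rels_hold _ (List.getElem_mem (l := HNT.relWords) (n := 5) (by decide))
  simpa [HNT.relWords, evW, h0, h1, h2, h3, h4, h5, pow_succ, mul_assoc, mul_inv_rev] using this

theorem rel6 : gz ^ 2 = 1 := by
  obtain ⟨h0, h1, h2, h3, h4, h5⟩ := ev_vals
  have := rels_hold _ (List.getElem_mem (l := HNT.relWords) (n := 6) (by decide))
  simpa [HNT.relWords, evW, h0, h1, h2, h3, h4, h5, pow_succ, mul_assoc, mul_inv_rev] using this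

theorem rel7 : (gz * gx) ^ 2 = 1 := by
  obtain ⟨h0, h1, h2, h3, h4, h5⟩ := ev_vals
  have := rels_hold _ (List.getElem_mem (l := HNT.relWords) (n := 7) (by decide))
  simpa [HNT.relWords, evW, h0, h1, h2, h3, h4, h5, pow_succ, mul_assoc, mul_inv_rev] using this

theorem rel9 : gz * (((gy ^ 3 * gx * gy * gx * gy)⁻¹ * gz * (gy ^ 3 * gx * gy * gx * gy)) * gx) ^ 3 = 1 := by
  obtain ⟨h0, h1, h2, h3, h4, h5⟩ := ev_vals
  have := rels_hold _ (List.getElem_mem (l := HNT.relWords) (n := 9) (by decide))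
  simpa [HNT.relWords, evW, h0, h1, h2, h3, h4, h5, pow_succ, mul_assoc, mul_inv_rev] using this

theorem closure_gens : Subgroup.closure ({gx, gy, gz} : Set T) = ⊤ := by
  rw [eq_top_iff, ← PresentedGroup.closure_range_of]
  apply Subgroup.closure_mono
  rintro _ ⟨g, rfl⟩
  cases g <;> simp

theorem conj_pow_two {G : Type*} [Group G] {s g : G} (h : g * s * g⁻¹ = s⁻¹) : g ^ 2 * s * (g ^ 2)⁻¹ = s := by
  calc g ^ 2 * s * (g ^ 2)⁻¹ = g * (g * s * g⁻¹) * g⁻¹ := by rw [pow_two]; group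
    _ = g * s⁻¹ * g⁻¹ := by rw [h]
    _ = (g * s * g⁻¹)⁻¹ := by group
    _ = s := by rw [h, inv_inv]

theorem conj_pow_three {G : Type*} [Group G] {s g : G} (h : g * s * g⁻¹ = s⁻¹) : g ^ 3 * s * (g ^ 3)⁻¹ = s⁻¹ := by
  calc g ^ 3 * s * (g ^ 3)⁻¹ = g * (g ^ 2 * s * (g ^ 2)⁻¹) * g⁻¹ := by rw [pow_succ']; group
    _ = s⁻¹ := by rw [conj_pow_two h, h]

/-- An element inverted by an element of order three is an involution. -/
theorem sq_conj {G : Type*} [Group G] {s g : G} (h3 : g ^ 3 = 1) (h : g * s * g⁻¹ = s⁻¹) : s * s = 1 := by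
  have e := conj_pow_three h
  rw [h3] at e
  simp only [one_mul, inv_one, mul_one] at e
  exact mul_eq_one_iff_eq_inv.2 e

theorem conj_y : gy * gx ^ 2 * gy⁻¹ = (gx ^ 2)⁻¹ := by
  have h := rel1
  have : gy * gx ^ 2 * gy⁻¹ = (gx ^ 2)⁻¹ * (gx ^ 2 * gy * gx ^ 2 * gy⁻¹) := by group
  rw [this, h, mul_one]

theorem x_four : gx ^ 4 = 1 := by
  have key : (gx⁻¹ * gy ^ 2 * gx * gy ^ 3) * gx ^ 2 * (gx⁻¹ * gy ^ 2 * gx * gy ^ 3)⁻¹ = (gx ^ 2)⁻¹ := by
    have h3 : gy ^ 3 * gx ^ 2 * (gy ^ 3)⁻¹ = (gx ^ 2)⁻¹ := conj_pow_three conj_y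
    have h2 : gy ^ 2 * (gx ^ 2)⁻¹ * (gy ^ 2)⁻¹ = (gx ^ 2)⁻¹ := by
      calc gy ^ 2 * (gx ^ 2)⁻¹ * (gy ^ 2)⁻¹ = (gy ^ 2 * gx ^ 2 * (gy ^ 2)⁻¹)⁻¹ := by group
        _ = (gx ^ 2)⁻¹ := by rw [conj_pow_two conj_y]
    calc _ = gx⁻¹ * (gy ^ 2 * (gx * (gy ^ 3 * gx ^ 2 * (gy ^ 3)⁻¹) * gx⁻¹) * (gy ^ 2)⁻¹) * gx := by group
      _ = gx⁻¹ * (gy ^ 2 * (gx ^ 2)⁻¹ * (gy ^ 2)⁻¹) * gx := by rw [h3]; group
      _ = (gx ^ 2)⁻¹ := by rw [h2]; group
  have := sq_conj rel3 key
  rwa [← pow_add] at this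

theorem inv_sq : (gx ^ 2)⁻¹ = gx ^ 2 := inv_eq_of_mul_eq_one_right (by rw [← pow_add]; exact x_four)

theorem sq_central : gx ^ 2 ∈ Subgroup.center T := by
  have hy : Commute gy (gx ^ 2) := by
    have h := conj_y
    rw [inv_sq] at h
    exact mul_inv_eq_iff_eq_mul.1 h
  have hz : Commute gz (gx ^ 2) := by
    have z2 : gz * gz = 1 := by rw [← pow_two]; exact rel6
    have h7 : gz * gx * gz = gx⁻¹ := by
      have := rel7
      rw [pow_two] at this
      have e : gz * gx * gz = gz * gx * (gz * gx) * gx⁻¹ := by group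
      rw [e, this, one_mul]
    have zinv : gz⁻¹ = gz := inv_eq_of_mul_eq_one_right z2
    have : gz * gx ^ 2 * gz⁻¹ = gx ^ 2 := by
      calc gz * gx ^ 2 * gz⁻¹ = (gz * gx * gz⁻¹) ^ 2 := by rw [conj_pow]
        _ = (gx⁻¹) ^ 2 := by rw [zinv, h7]
        _ = gx ^ 2 := by rw [inv_pow, inv_sq]
    exact mul_inv_eq_iff_eq_mul.1 this
  have hle : Subgroup.closure ({gx, gy, gz} : Set T) ≤ Subgroup.centralizer {gx ^ 2} := by
    rw [Subgroup.closure_le]
    rintro g (rfl | rfl | rfl) <;> rw [SetLike.mem_coe, Subgroup.mem_centralizer_singleton_iff]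
    · exact ((Commute.refl gx).pow_right 2).eq
    · exact hy.eq
    · exact hz.eq
  rw [closure_gens] at hle
  rw [Subgroup.mem_center_iff]
  intro g
  exact Subgroup.mem_centralizer_singleton_iff.1 (hle (Subgroup.mem_top g))

/-- q = x⁻¹ y x -/
noncomputable abbrev gq : T := gx⁻¹ * gy * gx
/-- p = y³ -/
noncomputable abbrev gp : T := gy ^ 3

theorem qp_four : (gq * gp) ^ 4 = 1 := by
  have e : gx * gy * gx * gy ^ 3 = gx ^ 2 * (gq * gp) := by simp only [gq, gp]; group
  have h := rel5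
  have hc : Commute (gx ^ 2) (gq * gp) := (Subgroup.mem_center_iff.1 sq_central _).symm
  rw [e, hc.mul_pow] at h
  have h8 : (gx ^ 2) ^ 4 = 1 := by
    rw [← pow_mul, show 2 * 4 = 4 * 2 from rfl, pow_mul, x_four, one_pow]
  rwa [h8, one_mul] at h

/-- values of the letters of the subgroup on q and p -/
noncomputable def evQ (l : ℕ) : T :=
  if l = 0 then gq else if l = 1 then gq⁻¹ else if l = 2 then gp else if l = 3 then gp⁻¹ else 1

theorem qp_rels : ∀ w ∈ HNQP.relWords, evW evQ w = 1 := by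
  have q6 : gq ^ 6 = 1 := by
    rw [show gq = gx⁻¹ * gy * gx⁻¹⁻¹ by rw [inv_inv], conj_pow, rel0, mul_one, mul_inv_cancel]
  have p2 : gp ^ 2 = 1 := by rw [← pow_mul]; exact rel0
  have q2p : (gq ^ 2 * gp) ^ 3 = 1 := by
    rw [show gq ^ 2 * gp = gx⁻¹ * gy ^ 2 * gx * gy ^ 3 by simp only [gq, gp, pow_two]; group]
    exact rel3
  intro w hw
  simp only [HNQP.relWords, List.mem_cons, List.not_mem_nil, or_false] at hw
  rcases hw with rfl | rfl | rfl | rfl
  · simpa [evW, evQ, pow_succ, mul_assoc] using q6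
  · simpa [evW, evQ, pow_succ, mul_assoc] using p2
  · simpa [evW, evQ, pow_succ, mul_assoc] using qp_four
  · simpa [evW, evQ, pow_succ, mul_assoc] using q2p

theorem evQ_inv : ∀ x, x < HNQP.enum.A.eps → evQ (HNQP.enum.A.invl x) * evQ x = 1 := by
  intro x hx
  change x < 6 at hx
  have hi : ∀ i, i < 6 → HNQP.enum.A.invl i = [1, 0, 3, 2, 5, 4].getD i 6 := by decide +kernel
  rw [hi x hx]
  interval_cases x <;> simp [evQ, mul_assoc]

theorem card_qp : Nat.card (genBy evQ [0, 2]) ≠ 0 ∧ Nat.card (genBy evQ [0, 2]) ≤ 120 := by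
  have h := Cover.relIndex_le (C := HNQP.cover) (ev := evQ) (H := genBy evQ []) (K := genBy evQ [0, 2])
    HNQP.enum_valid HNQP.facts_ok HNQP.cover_ok (by rfl) evQ_inv qp_rels
    (fun w hw => by simp [HNQP.enum, HNQP.subWords] at hw) le_rfl
  have := card_le_mul (genBy_mono evQ (by simp)) (card_bot_le evQ) h
  exact this

/-- W = ⟨q, p, x²⟩ -/
noncomputable def W : Subgroup T := Subgroup.closure ((fun w => evW ev w) '' {w | w ∈ HNU.subWords})

theorem card_W : Nat.card W ≠ 0 ∧ Nat.card W ≤ 240 := by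
  obtain ⟨hq, hq'⟩ := card_qp
  have hfq : Finite (genBy evQ [0, 2]) := Nat.finite_of_card_ne_zero hq
  let Z : Subgroup T := Subgroup.zpowers (gx ^ 2)
  have hord : orderOf (gx ^ 2) ∣ 2 := orderOf_dvd_of_pow_eq_one (by rw [← pow_mul]; exact x_four)
  have hZ : Nat.card Z ≤ 2 := by rw [Nat.card_zpowers]; exact Nat.le_of_dvd two_pos hord
  have hfz : Finite Z := Nat.finite_of_card_ne_zero (by
    rw [Nat.card_zpowers]; intro h0; rw [h0, zero_dvd_iff] at hord; omega)
  let f : genBy evQ [0, 2] × Z →* T := MonoidHom.noncommCoprod (genBy evQ [0, 2]).subtype Z.subtype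
    (fun a b => ((Subgroup.mem_center_iff.1 (Subgroup.zpowers_le.2 sq_central b.2) a.1) : Commute a.1 b.1))
  have hle : W ≤ f.range := by
    rw [W, Subgroup.closure_le]
    rintro _ ⟨w, hw, rfl⟩
    have hs : w ∈ HNU.subWords := hw
    simp only [HNU.subWords, List.mem_cons, List.not_mem_nil, or_false] at hs
    obtain ⟨h0, h1, h2, h3, h4, h5⟩ := ev_vals
    rcases hs with rfl | rfl | rfl
    · refine ⟨(⟨gq, mem_genBy evQ (List.mem_cons_self ..)⟩, 1), ?_⟩
      show gq * 1 = _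
      simp [evW, h0, h1, h2, gq, mul_assoc]
    · refine ⟨(⟨gp, mem_genBy evQ (l := [0, 2]) (x := 2) (by simp)⟩, 1), ?_⟩
      show gp * 1 = _
      simp [evW, h2, gp, pow_succ, mul_assoc]
    · refine ⟨(1, ⟨gx ^ 2, Subgroup.mem_zpowers _⟩), ?_⟩
      show 1 * gx ^ 2 = _
      simp [evW, h0, pow_succ]
  have hsurj : Nat.card f.range ≤ 240 := by
    refine (Nat.card_le_card_of_surjective f.rangeRestrict f.rangeRestrict_surjective).trans ?_
    rw [Nat.card_prod]
    exact (Nat.mul_le_mul hq' hZ).trans_eq rfl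
  have : Finite f.range := Finite.of_surjective f.rangeRestrict f.rangeRestrict_surjective
  have : Finite W := Finite.of_injective _ (Subgroup.inclusion_injective hle)
  exact ⟨Nat.card_pos.ne', (Subgroup.card_le_of_le hle).trans hsurj⟩

/-- U = ⟨x, y⟩ -/
noncomputable def U : Subgroup T := genBy ev [0, 2]

theorem card_U : Nat.card U ≠ 0 ∧ Nat.card U ≤ 6300 * 240 := by
  have hWU : W ≤ U := by
    rw [W, Subgroup.closure_le]
    rintro _ ⟨w, hw, rfl⟩
    refine list_prod_mem ?_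
    intro g hg
    obtain ⟨l, hl, rfl⟩ := List.mem_map.1 hg
    have hall : ∀ w ∈ HNU.subWords, ∀ l ∈ w, l < 4 := by decide
    have := hall w hw l hl
    obtain ⟨h0, h1, h2, h3, h4, h5⟩ := ev_vals
    have m0 : ev 0 ∈ U := mem_genBy ev (by simp)
    have m2 : ev 2 ∈ U := mem_genBy ev (by simp)
    interval_cases l
    · exact m0
    · rw [h1, ← h0]; exact U.inv_mem m0
    · exact m2
    · rw [h3, ← h2]; exact U.inv_mem m2
  refine card_le_mul hWU card_W ?_
  exact Cover.relIndex_le (C := HNU.cover) (ev := ev) HNU.enum_valid HNU.facts_ok HNU.cover_ok ev_one ev_inv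
    (fun w hw => rels_hold w ((show ∀ w ∈ HNU.relWords, w ∈ HNT.relWords by decide) w hw))
    (fun w hw => Subgroup.subset_closure ⟨w, hw, rfl⟩) le_rfl

theorem gen_top : Subgroup.closure (ev '' {x | x ∈ [0, 2, 4]}) = ⊤ := by
  rw [eq_top_iff, ← closure_gens]
  apply Subgroup.closure_mono
  obtain ⟨h0, -, h2, -, h4, -⟩ := ev_vals
  rintro g (rfl | rfl | rfl)
  · exact ⟨0, by simp, h0⟩
  · exact ⟨2, by simp, h2⟩
  · exact ⟨4, by simp, h4⟩

theorem card_T_le : Nat.card T ≠ 0 ∧ Nat.card T ≤ 532224000 := by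
  refine card_top_le (m := 6300 * 240) (n := 352) card_U ?_
  refine Cover.relIndex_le (C := HNT.cover) (ev := ev) HNT.enum_valid HNT.facts_ok HNT.cover_ok ev_one ev_inv
    rels_hold ?_ gen_top.ge
  intro w hw
  change w ∈ HNT.subWords at hw
  simp only [HNT.subWords, List.mem_cons, List.not_mem_nil, or_false] at hw
  rcases hw with rfl | rfl <;>
    · simp only [evW_cons, evW_nil, mul_one]
      exact mem_genBy ev (by simp)

end CfsgLib.Presented.HNxyz
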