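import Cfsg.Agent.Lib.Presented.HNxyz.Alt12
import Cfsg.Prelude.Def_Sporadic
import Mathlib.GroupTheory.GroupAction.Quotient
import Mathlib.GroupTheory.Index

/-!
The permutation realisation of degree 1140000 of a simple presented Harada-Norton group.
-/
set_option autoImplicit false
set_option maxRecDepth 8000

namespace CfsgLib.Presented.HNxyz

theorem rho_injective (h : IsSimpleGroup Cfsg.Spor.HN) : Function.Injective rho := by
  rcases rho.normal_ker.eq_bot_or_eq_top with e | e
  · exact rho.ker_eq_bot_iff.1 e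
  · exact absurd (MonoidHom.mem_ker.1 (e ▸ Subgroup.mem_top (elA 1) : elA 1 ∈ rho.ker)) psi_ne

/-- A simple finite group acts faithfully on the cosets of a proper subgroup, as permutations of an initial segment. -/
theorem exists_realization {G : Type*} [Group G] [Finite G] [IsSimpleGroup G] (H : Subgroup G) {n : ℕ}
    (hn : H.index = n + 1) (hne : H ≠ ⊤) :
    ∃ P : Subgroup (Equiv.Perm (Fin (n + 1))), Nonempty (G ≃* P) ∧ MulAction.IsPretransitive P (Fin (n + 1)) ∧
      Nonempty (MulAction.stabilizer P (0 : Fin (n + 1)) ≃* H) := by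
  classical
  let e₀ : G ⧸ H ≃ Fin (n + 1) := (Finite.equivFinOfCardEq (show Nat.card (G ⧸ H) = n + 1 from hn))
  let e : G ⧸ H ≃ Fin (n + 1) := e₀.trans (Equiv.swap (e₀ ((1 : G) : G ⧸ H)) 0)
  have he : e ((1 : G) : G ⧸ H) = 0 := by simp [e]
  let φ : G →* Equiv.Perm (Fin (n + 1)) := e.permCongrHom.toMonoidHom.comp (MulAction.toPermHom G (G ⧸ H))
  have hφ : ∀ g j, φ g j = e (g • e.symm j) := fun g j => rfl
  have hstab : ∀ g, φ g 0 = 0 ↔ g ∈ H := by
    intro g
    rw [hφ, ← he, e.symm_apply_apply, e.apply_eq_iff_eq, ← MulAction.mem_stabilizer_iff,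
      MulAction.stabilizer_quotient]
  have hinj : Function.Injective φ := by
    rcases φ.normal_ker.eq_bot_or_eq_top with h | h
    · exact φ.ker_eq_bot_iff.1 h
    · exfalso
      refine hne (eq_top_iff.2 fun g _ => (hstab g).1 ?_)
      rw [MonoidHom.mem_ker.1 (h ▸ Subgroup.mem_top g : g ∈ φ.ker), Equiv.Perm.one_apply]
  let q := MonoidHom.ofInjective hinj
  refine ⟨φ.range, ⟨q⟩, ⟨fun a b => ?_⟩, ⟨?_⟩⟩
  · obtain ⟨g, hg⟩ := MulAction.exists_smul_eq G (e.symm a) (e.symm b)
    refine ⟨q g, ?_⟩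
    show φ g a = b
    rw [hφ, hg, e.apply_symm_apply]
  · have hmap : MulAction.stabilizer φ.range (0 : Fin (n + 1)) = H.map q.toMonoidHom := by
      ext x
      obtain ⟨g, rfl⟩ := q.surjective x
      rw [MulAction.mem_stabilizer_iff, Subgroup.mem_map_equiv, q.symm_apply_apply]
      exact hstab g
    exact (MulEquiv.subgroupCongr hmap).trans (H.equivMapOfInjective q.toMonoidHom q.injective).symm

/-- **The realisation of degree 1140000.** -/
theorem realization (h : Cfsg.IsHN Cfsg.Spor.HN) :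
    ∃ P : Subgroup (Equiv.Perm (Fin 1140000)), Cfsg.IsHN P ∧ MulAction.IsPretransitive P (Fin 1140000) ∧
      Nonempty (MulAction.stabilizer P (0 : Fin 1140000) ≃* alternatingGroup (Fin 12)) := by
  have hs := h.1
  have hc := h.2
  have : Finite Cfsg.Spor.HN := Nat.finite_of_card_ne_zero (by rw [hc]; norm_num)
  obtain ⟨H, ⟨eH⟩⟩ := exists_alt12 (rho_injective hs)
  have hH : Nat.card H = 239500800 := by
    rw [Nat.card_congr eH.toEquiv, nat_card_alternatingGroup, Nat.card_fin]
    decide +kernel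
  have hidx : H.index = 1139999 + 1 := by
    have e := Subgroup.card_mul_index H
    rw [hH, hc] at e
    omega
  have hne : H ≠ ⊤ := fun e => by rw [e, Subgroup.index_top] at hidx; omega
  obtain ⟨P, ⟨q⟩, hp, ⟨s⟩⟩ := exists_realization H hidx hne
  refine ⟨P, ⟨?_, ?_⟩, hp, ⟨s.trans eH⟩⟩
  · exact q.symm.isSimpleGroup
  · rw [← Nat.card_congr q.toEquiv]; exact hc

end CfsgLib.Presented.HNxyz
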